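import Cfsg.Agent.Lib.GW.Sig.Setup
import Mathlib

/-!
# `KFacts` modulo the core: the statements about a group `K = H / O(H)`

`Facts K r` is `KFacts` read in `K`; `Tame β` is what an involution of `G` normalising `H` leaves
in `K`.
-/

set_option autoImplicit false

namespace CfsgLib.GW.KFactsProof

open Subgroup

/-- Two distinct commuting involutions. -/
structure Four {K : Type*} [Group K] (v w : K) : Prop where
  hv : orderOf v = 2
  hw : orderOf w = 2
  ne : v ≠ w
  comm : Commute v w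

theorem Four.map {K L : Type*} [Group K] [Group L] {v w : K} (h : Four v w) (f : K →* L)
    (hf : Function.Injective f) : Four (f v) (f w) :=
  ⟨(orderOf_injective f hf v).trans h.hv, (orderOf_injective f hf w).trans h.hw,
    fun e => h.ne (hf e), h.comm.map f⟩

theorem Four.of_map {K L : Type*} [Group K] [Group L] {v w : K} (f : K →* L)
    (hf : Function.Injective f) (h : Four (f v) (f w)) : Four v w :=
  ⟨(orderOf_injective f hf v).symm.trans h.hv, (orderOf_injective f hf w).symm.trans h.hw,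
    fun e => h.ne (congrArg f e), hf (by rw [map_mul, map_mul]; exact h.comm.eq)⟩

variable {K : Type*} [Group K]

/-- An involutory automorphism which fixes a four-group only as conjugation by one of its
involutions. -/
structure Tame (β : MulAut K) : Prop where
  sq : β * β = 1
  four : ∀ v w : K, Four v w → β v = v → β w = w →
    ∃ k, (k = v ∨ k = w ∨ k = v * w) ∧ β = MulAut.conj k

/-- A non-trivial normal subgroup generated by its elements of `2`-power order. -/
structure InnerN (N : Subgroup K) : Prop where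
  normal : N.Normal
  ne : N ≠ ⊥
  gen : N ≤ closure {x | x ∈ N ∧ ∃ k : ℕ, x ^ 2 ^ k = 1}

/-- An elementary abelian `r`-subgroup. -/
structure EAb (r : ℕ) (A : Subgroup K) : Prop where
  comm : ∀ a ∈ A, ∀ b ∈ A, Commute a b
  pow : ∀ a ∈ A, a ^ r = 1

/-- `KFacts` modulo the core. -/
structure Facts (K : Type*) [Group K] (r : ℕ) : Prop where
  four : ∀ N : Subgroup K, InnerN N →
    (∃ v ∈ N, ∃ w ∈ N, Four v w) ∨ ∀ k : K, Odd (orderOf k) → ∀ x ∈ N, Commute k x
  quot : ∀ N A : Subgroup K, InnerN N → EAb r A → Nat.card A ≤ r * Nat.card (A ⊓ N : Subgroup K)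
  comm : ∀ N A : Subgroup K, InnerN N → EAb r A → r ^ 2 ≤ Nat.card A →
    ∀ β : MulAut K, ∀ a ∈ A, a * β a⁻¹ ∈ N
  abel : ∀ N A : Subgroup K, InnerN N → A ≤ N → IsPGroup r A → ∀ a ∈ A, ∀ b ∈ A, Commute a b
  expAbel : ∀ F : Subgroup K, (∀ a ∈ F, a ^ r = 1) → ∀ β : MulAut K, Tame β →
    ((∀ a ∈ F, β a = a) ∨ F ≤ closure {a | a ∈ F ∧ β a = a⁻¹}) → ∀ a ∈ F, ∀ b ∈ F, Commute a b
  free : ∀ N A : Subgroup K, InnerN N → EAb r A → A ≤ N → r ^ 2 ≤ Nat.card A →
    ∀ β : MulAut K, Tame β → (∀ a ∈ A, β a ∈ A) → ∀ a ∈ A, β a = a → a = 1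
  outer : ∀ N A : Subgroup K, InnerN N → EAb r A → r ^ 2 ≤ Nat.card A →
    ∀ a ∈ A, a ∉ N → ∃ v ∈ N, ∃ w ∈ N, Four v w ∧ Commute v a ∧ Commute w a
  bigInner : ∀ N A : Subgroup K, InnerN N → EAb r A → r ^ 2 ≤ Nat.card (A ⊓ N : Subgroup K) →
    ∀ R : Sylow r K, A ≤ (R : Subgroup K) → (R : Subgroup K) ≤ normalizer (A : Set K) → A ≤ N
  bigSelf : ∀ N A : Subgroup K, InnerN N → EAb r A → A ≤ N → r ^ 2 ≤ Nat.card A →
    ∀ P : Subgroup K, IsPGroup r P → P ≤ N → (∀ Q : Subgroup K, IsPGroup r Q → P ≤ Q → Q ≤ N → Q = P) →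
      A ≤ P → N ⊓ normalizer (P : Set K) ≤ normalizer (A : Set K) →
      ∀ x : K, (∀ a ∈ A, Commute x a) → x ∈ A
  cent : ∀ N A : Subgroup K, InnerN N → EAb r A → A ≤ N → r ^ 2 ≤ Nat.card A →
    ∀ a ∈ A, a ≠ 1 → ∀ x ∈ N, Odd (orderOf x) → Commute x a → ∃ k : ℕ, x ^ r ^ k = 1

theorem EAb.isPGroup {r : ℕ} {A : Subgroup K} (h : EAb r A) : IsPGroup r A := fun a =>
  ⟨1, Subtype.ext (by rw [pow_one, coe_pow, coe_one]; exact h.pow a a.2)⟩

/-- A cyclic subgroup of exponent `r` has order at most `r`. -/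
theorem card_le_of_isCyclic [Finite K] {r : ℕ} (hr : 0 < r) {S : Subgroup K} [hS : IsCyclic S]
    (h : ∀ a ∈ S, a ^ r = 1) : Nat.card S ≤ r := by
  obtain ⟨g, hg⟩ := hS.exists_generator
  rw [← orderOf_eq_card_of_forall_mem_zpowers hg]
  exact Nat.le_of_dvd hr (orderOf_dvd_of_pow_eq_one (Subtype.ext (by
    rw [coe_pow, coe_one]; exact h g g.2)))

/-- An `r`-group of order at most `r ^ 2` is abelian. -/
theorem commute_of_card_le_sq [Finite K] {r : ℕ} [hr : Fact r.Prime] {S : Subgroup K}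
    (hS : IsPGroup r S) (h : Nat.card S ≤ r ^ 2) {a b : K} (ha : a ∈ S) (hb : b ∈ S) : Commute a b := by
  obtain ⟨n, hn⟩ := IsPGroup.iff_card.1 hS
  have hn2 : n ≤ 2 := (Nat.pow_le_pow_iff_right hr.out.one_lt).1 (hn ▸ h)
  suffices h : ∀ x y : S, x * y = y * x from congrArg Subtype.val (h ⟨a, ha⟩ ⟨b, hb⟩)
  intro x y
  interval_cases n
  · haveI : Subsingleton S := (Nat.card_eq_one_iff_unique.1 (by simpa using hn)).1
    exact Subsingleton.elim _ _
  · haveI : IsCyclic S := isCyclic_of_prime_card (p := r) (by simpa using hn)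
    letI := IsCyclic.commGroup (α := S)
    exact mul_comm x y
  · exact (IsPGroup.commGroupOfCardEqPrimeSq (G := S) (p := r) hn).mul_comm x y

end CfsgLib.GW.KFactsProof
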