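import Cfsg.Agent.Lib.GW.Sig.Lift
import Cfsg.Agent.Lib.GW.KFactsProof.Model

/-!
# Passing between `H` and `H / O(H)`
-/

set_option autoImplicit false

namespace CfsgLib.GW.KFactsProof

open Subgroup
open CfsgLib.GW.Sig (oddOf TwoElt InnerLike ElabMod RankTwo)
open CfsgLib.Signalizer (involution_sq involution_ne_one orderOf_eq_two_of)

universe u

variable {G : Type u} [Group G] [Finite G]

/-- An involution modulo the core lifts to an involution commuting with a coprime group fixing it. -/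
theorem exists_lift_inv {H B : Subgroup G} (hB : B ≤ normalizer (H : Set G))
    (hcop : (Nat.card B).Coprime (Nat.card (oddOf H))) {w : G} (hw : w ∈ H) (hw2 : w * w ∈ oddOf H)
    (hw1 : w ∉ oddOf H) (hfix : ∀ b ∈ B, b * w * b⁻¹ * w⁻¹ ∈ oddOf H) :
    ∃ y ∈ H, orderOf y = 2 ∧ y ∈ centralizer (B : Set G) ∧ w⁻¹ * y ∈ oddOf H := by
  have hwN : w ∈ normalizer (oddOf H : Set G) := Sig.le_normalizer_oddOf H hw
  obtain ⟨n, hn, hc⟩ := CfsgLib.Core.exists_centralizing_in_coset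
    (hB.trans (Sig.normalizer_le_oddOf H)) hcop
    (Or.inr (CfsgLib.OddLocal.FTFinal.odd_order_solvable (Sig.odd_oddOf H))) (k := w) (fun b hb => by
      have h := (mem_normalizer_iff''.1 hwN _).1 (hfix b hb)
      rwa [show w⁻¹ * (b * w * b⁻¹ * w⁻¹) * w = w⁻¹ * (b * w * b⁻¹) by group] at h)
  set z := w * n with hz
  have hzH : z ∈ H := mul_mem hw (Sig.oddOf_le H hn)
  obtain ⟨a, m, hm, hzo⟩ := Nat.exists_eq_two_pow_mul_odd (orderOf_pos z).ne'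
  have hz2 : z * z ∈ oddOf H := by
    rw [show z * z = w * w * (w⁻¹ * n * w) * n by rw [hz]; group]
    exact mul_mem (mul_mem hw2 ((mem_normalizer_iff''.1 hwN n).1 hn)) hn
  obtain ⟨j, rfl⟩ := hm
  have hwy : w⁻¹ * z ^ (2 * j + 1) ∈ oddOf H := by
    rw [pow_succ', ← mul_assoc, show w⁻¹ * z = n by rw [hz, inv_mul_cancel_left], pow_mul, pow_two]
    exact mul_mem hn (pow_mem hz2 j)
  refine ⟨z ^ (2 * j + 1), pow_mem hzH _, ?_, pow_mem hc _, hwy⟩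
  refine orderOf_eq_two_of (fun e => hw1 ?_) ?_
  · rw [e, mul_one] at hwy
    exact inv_mem_iff.1 hwy
  · have ht : TwoElt (z ^ (2 * j + 1) * z ^ (2 * j + 1)) :=
      ⟨a, by rw [← pow_add, ← pow_mul, show (2 * j + 1 + (2 * j + 1)) * 2 ^ a = 2 ^ a * (2 * j + 1) * 2 by ring,
        pow_mul, ← hzo, pow_orderOf_eq_one, one_pow]⟩
    refine ht.eq_one_of_mem (Sig.odd_oddOf H) ?_
    rw [← pow_add, show 2 * j + 1 + (2 * j + 1) = 2 * (2 * j + 1) by ring, pow_mul, pow_two]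
    exact pow_mem hz2 _

/-- The quotient map. -/
noncomputable abbrev q (H : Subgroup G) : H →* H ⧸ Cfsg.oddCore H := QuotientGroup.mk' _

/-- The image of a subgroup modulo the core. -/
noncomputable def img (H A : Subgroup G) : Subgroup (H ⧸ Cfsg.oddCore H) := (A.subgroupOf H).map (q H)

variable {H : Subgroup G}

omit [Finite G] in
theorem q_eq_one {x : G} (hx : x ∈ H) : q H ⟨x, hx⟩ = 1 ↔ x ∈ oddOf H :=
  (QuotientGroup.eq_one_iff _).trans
    ⟨fun h => ⟨_, h, rfl⟩, fun ⟨y, hy, e⟩ => by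
      obtain rfl : y = ⟨x, hx⟩ := Subtype.ext e
      exact hy⟩

omit [Finite G] in
theorem q_eq_q {x y : G} (hx : x ∈ H) (hy : y ∈ H) : q H ⟨x, hx⟩ = q H ⟨y, hy⟩ ↔ x * y⁻¹ ∈ oddOf H := by
  rw [← mul_inv_eq_one, ← map_inv, ← map_mul]
  exact q_eq_one (mul_mem hx (inv_mem hy))

omit [Finite G] in
theorem commute_iff {a b : G} (ha : a ∈ H) (hb : b ∈ H) :
    Commute (q H ⟨a, ha⟩) (q H ⟨b, hb⟩) ↔ a * b * a⁻¹ * b⁻¹ ∈ oddOf H := by
  show q H ⟨a, ha⟩ * q H ⟨b, hb⟩ = q H ⟨b, hb⟩ * q H ⟨a, ha⟩ ↔ _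
  rw [← map_mul, ← map_mul]
  refine (q_eq_q (mul_mem ha hb) (mul_mem hb ha)).trans (Iff.of_eq ?_)
  rw [show a * b * (b * a)⁻¹ = a * b * a⁻¹ * b⁻¹ by group]

omit [Finite G] in
theorem mem_img {A : Subgroup G} {a : G} (ha : a ∈ A) (h : a ∈ H) : q H ⟨a, h⟩ ∈ img H A :=
  ⟨⟨a, h⟩, ha, rfl⟩

omit [Finite G] in
theorem exists_of_mem_img {A : Subgroup G} {k : H ⧸ Cfsg.oddCore H} (hk : k ∈ img H A) :
    ∃ a, a ∈ A ∧ ∃ h : a ∈ H, q H ⟨a, h⟩ = k := by
  obtain ⟨⟨a, h⟩, ha, rfl⟩ := hk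
  exact ⟨a, ha, h, rfl⟩

omit [Finite G] in
theorem mem_sup_of_img {A : Subgroup G} {x : G} (hx : x ∈ H) (h : q H ⟨x, hx⟩ ∈ img H A) :
    x ∈ A ⊔ oddOf H := by
  obtain ⟨a, ha, haH, e⟩ := exists_of_mem_img h
  have h1 : a⁻¹ * x ∈ oddOf H := by
    refine (q_eq_one (mul_mem (inv_mem haH) hx)).1 ?_
    show q H (⟨a, haH⟩⁻¹ * ⟨x, hx⟩) = 1
    rw [map_mul, map_inv, e, inv_mul_cancel]
  rw [show x = a * (a⁻¹ * x) by group]
  exact mul_mem (mem_sup_left ha) (mem_sup_right h1)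

omit [Finite G] in
theorem mem_of_img {A : Subgroup G} (hO : oddOf H ≤ A) {x : G} (hx : x ∈ H)
    (h : q H ⟨x, hx⟩ ∈ img H A) : x ∈ A :=
  (sup_le le_rfl hO : A ⊔ oddOf H ≤ A) (mem_sup_of_img hx h)

omit [Finite G] in
theorem img_mono {A B : Subgroup G} (h : A ≤ B) : img H A ≤ img H B :=
  Subgroup.map_mono (Subgroup.comap_mono h)

omit [Finite G] in
theorem isPGroup_img {r : ℕ} {A : Subgroup G} (hA : IsPGroup r A) : IsPGroup r (img H A) :=
  (hA.comap_of_injective H.subtype H.subtype_injective).map _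

/-- Elements of a closure stay in the closure after passing to the quotient. -/
theorem q_mem_closure {S : Set G} {T : Set (H ⧸ Cfsg.oddCore H)}
    (h : ∀ x ∈ S, ∃ hx : x ∈ H, q H ⟨x, hx⟩ ∈ closure T) {x : G} (hx : x ∈ oddOf H ⊔ closure S)
    (hxH : x ∈ H) : q H ⟨x, hxH⟩ ∈ closure T := by
  have hle : oddOf H ⊔ closure S ≤ ((closure T).comap (q H)).map H.subtype := by
    refine sup_le (fun y hy => ⟨⟨y, Sig.oddOf_le H hy⟩, ?_, rfl⟩) ((closure_le _).2 fun y hy => ?_)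
    · show q H _ ∈ closure T
      rw [(q_eq_one _).2 hy]
      exact one_mem _
    · obtain ⟨hyH, hy'⟩ := h y hy
      exact ⟨⟨y, hyH⟩, hy', rfl⟩
  obtain ⟨⟨y, hy⟩, hy', e⟩ := hle hx
  obtain rfl : y = x := e
  exact hy'

theorem card_eq {A : Subgroup G} (hA : A ≤ H) :
    Nat.card A = Nat.card (img H A) * Nat.card (A ⊓ oddOf H : Subgroup G) := by
  let φ : A →* H ⧸ Cfsg.oddCore H := (q H).comp (inclusion hA)
  have h1 : φ.range = img H A := by
    ext k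
    exact ⟨fun ⟨a, e⟩ => e ▸ mem_img a.2 (hA a.2), fun hk => by
      obtain ⟨a, ha, h, rfl⟩ := exists_of_mem_img hk
      exact ⟨⟨a, ha⟩, rfl⟩⟩
  have h2 : φ.ker.map A.subtype = A ⊓ oddOf H := by
    ext x
    refine ⟨?_, fun hx => ⟨⟨x, hx.1⟩, (q_eq_one (hA hx.1)).2 hx.2, rfl⟩⟩
    rintro ⟨a, ha, rfl⟩
    exact ⟨a.2, (q_eq_one (hA a.2)).1 ha⟩
  rw [← h1, ← h2, card_map_of_injective A.subtype_injective, ← index_ker, φ.ker.index_mul_card]

variable {N : Subgroup G} (hN : InnerLike H N)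
include hN

theorem innerN_img : InnerN (img H N) := by
  refine ⟨?_, fun h => hN.even ?_, fun k hk => ?_⟩
  · haveI : (N.subgroupOf H).Normal := ⟨fun n hn g => (mem_normalizer_iff.1 (hN.normal g.2) _).1 hn⟩
    exact Subgroup.Normal.map inferInstance _ (QuotientGroup.mk'_surjective _)
  · have hle : N ≤ oddOf H := fun x hx => (q_eq_one (hN.le hx)).1
      (mem_bot.1 (h ▸ mem_img hx (hN.le hx)))
    exact (Sig.odd_oddOf H).of_dvd_nat (card_dvd_of_le hle)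
  · obtain ⟨x, hx, hxH, rfl⟩ := exists_of_mem_img hk
    refine q_mem_closure (S := {y | y ∈ N ∧ TwoElt y})
      (T := {y | y ∈ img H N ∧ ∃ k : ℕ, y ^ 2 ^ k = 1}) (fun y hy => ⟨hN.le hy.1, subset_closure ⟨mem_img hy.1 _, ?_⟩⟩) (hN.gen hx) hxH
    obtain ⟨k, hk⟩ := hy.2
    exact ⟨k, by rw [← map_pow, show (⟨y, hN.le hy.1⟩ : H) ^ 2 ^ k = 1 from Subtype.ext hk, map_one]⟩

theorem img_inf (A : Subgroup G) : img H (A ⊓ N) = img H A ⊓ img H N := by
  refine le_antisymm (le_inf (img_mono inf_le_left) (img_mono inf_le_right)) fun k hk => ?_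
  obtain ⟨a, ha, haH, rfl⟩ := exists_of_mem_img hk.1
  exact mem_img (mem_inf.2 ⟨ha, mem_of_img hN.core_le haH hk.2⟩) haH

theorem card_inf_eq (A : Subgroup G) :
    Nat.card (A ⊓ N : Subgroup G) =
      Nat.card (img H A ⊓ img H N : Subgroup _) * Nat.card (A ⊓ oddOf H : Subgroup G) := by
  rw [card_eq (inf_le_right.trans hN.le), img_inf hN, inf_assoc, inf_eq_right.2 hN.core_le]

omit hN
omit [Finite G] in
theorem eAb_img {r : ℕ} {A : Subgroup G} (hA : ElabMod r H A) : EAb r (img H A) := by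
  refine ⟨?_, ?_⟩
  · intro a ha b hb
    obtain ⟨a, haA, haH, rfl⟩ := exists_of_mem_img ha
    obtain ⟨b, hbA, hbH, rfl⟩ := exists_of_mem_img hb
    exact (commute_iff haH hbH).2 (hA.comm a haA b hbA)
  · intro a ha
    obtain ⟨a, haA, haH, rfl⟩ := exists_of_mem_img ha
    rw [← map_pow]
    exact (q_eq_one (pow_mem haH r)).2 (hA.pow a haA)

theorem sq_le_card_img {r : ℕ} {A : Subgroup G} (hA : ElabMod r H A) (h : RankTwo r H A) :
    r ^ 2 ≤ Nat.card (img H A) := by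
  unfold RankTwo at h
  rw [card_eq hA.le] at h
  exact Nat.le_of_mul_le_mul_right h Nat.card_pos

/-- A four-group of `H / O(H)` fixed by a group of order prime to `|O(H)|` lifts. -/
theorem exists_lift_four {B : Subgroup G} (hB : B ≤ normalizer (H : Set G))
    (hcop : (Nat.card B).Coprime (Nat.card (oddOf H))) {v w : H ⧸ Cfsg.oddCore H} (h : Four v w)
    (hv : ∀ b ∈ B, ∀ z, ∀ hz : z ∈ H, q H ⟨z, hz⟩ = v → b * z * b⁻¹ * z⁻¹ ∈ oddOf H)
    (hw : ∀ b ∈ B, ∀ z, ∀ hz : z ∈ H, q H ⟨z, hz⟩ = w → b * z * b⁻¹ * z⁻¹ ∈ oddOf H) :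
    ∃ (v' w' : G) (hv' : v' ∈ H) (hw' : w' ∈ H), orderOf v' = 2 ∧ orderOf w' = 2 ∧ v' ≠ w' ∧
      Commute v' w' ∧ q H ⟨v', hv'⟩ = v ∧ q H ⟨w', hw'⟩ = w ∧
      (∀ b ∈ B, Commute b v') ∧ ∀ b ∈ B, Commute b w' := by
  have lift : ∀ {C : Subgroup G}, C ≤ normalizer (H : Set G) →
      (Nat.card C).Coprime (Nat.card (oddOf H)) → ∀ {k : H ⧸ Cfsg.oddCore H}, orderOf k = 2 →
      (∀ b ∈ C, ∀ z, ∀ hz : z ∈ H, q H ⟨z, hz⟩ = k → b * z * b⁻¹ * z⁻¹ ∈ oddOf H) →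
      ∃ (y : G) (hy : y ∈ H), orderOf y = 2 ∧ q H ⟨y, hy⟩ = k ∧ ∀ b ∈ C, Commute b y := by
    intro C hC hCc k hk hfix
    obtain ⟨⟨z, hz⟩, rfl⟩ := QuotientGroup.mk'_surjective _ k
    have hz2 : z * z ∈ oddOf H := (q_eq_one (mul_mem hz hz)).1 (by
      show q H (⟨z, hz⟩ * ⟨z, hz⟩) = 1
      rw [map_mul]; exact involution_sq hk)
    obtain ⟨y, hy, hy2, hyc, hyz⟩ := exists_lift_inv hC hCc hz hz2
      (fun e => involution_ne_one hk ((q_eq_one hz).2 e)) fun b hb => hfix b hb z hz rfl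
    refine ⟨y, hy, hy2, ?_, fun b hb => mem_centralizer_iff.1 hyc b hb⟩
    refine (inv_mul_eq_one.1 ?_).symm
    rw [← map_inv, ← map_mul]
    exact (q_eq_one _).2 hyz
  obtain ⟨v', hv', hv2, hqv, hvB⟩ := lift hB hcop h.hv hv
  let C : Subgroup G :=
    { carrier := {b | b ∈ normalizer (H : Set G) ∧ ∀ z, ∀ hz : z ∈ H, q H ⟨z, hz⟩ = w →
        b * z * b⁻¹ * z⁻¹ ∈ oddOf H}
      one_mem' := ⟨one_mem _, fun z hz _ => by simp⟩
      mul_mem' := by
        rintro a b ⟨ha, ha'⟩ ⟨hb, hb'⟩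
        refine ⟨mul_mem ha hb, fun z hz e => ?_⟩
        rw [show a * b * z * (a * b)⁻¹ * z⁻¹ = a * (b * z * b⁻¹ * z⁻¹) * a⁻¹ * (a * z * a⁻¹ * z⁻¹) by group]
        exact mul_mem ((mem_normalizer_iff.1 (Sig.normalizer_le_oddOf H ha) _).1 (hb' z hz e)) (ha' z hz e)
      inv_mem' := by
        rintro a ⟨ha, ha'⟩
        refine ⟨inv_mem ha, fun z hz e => ?_⟩
        rw [show a⁻¹ * z * a⁻¹⁻¹ * z⁻¹ = a⁻¹ * (a * z * a⁻¹ * z⁻¹)⁻¹ * a by group]
        exact (mem_normalizer_iff''.1 (Sig.normalizer_le_oddOf H ha) _).1 (inv_mem (ha' z hz e)) }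
  have hBC : B ⊔ zpowers v' ≤ C := by
    refine sup_le (fun b hb => ⟨hB hb, hw b hb⟩) (zpowers_le.2 ⟨le_normalizer hv', fun z hz e => ?_⟩)
    rw [← commute_iff hv' hz, hqv, e]
    exact h.comm
  have hzB : zpowers v' ≤ normalizer (B : Set G) := zpowers_le.2 (mem_normalizer_iff.2 fun b => by
    constructor
    · intro hb; rwa [← (hvB b hb).eq, mul_inv_cancel_right]
    · intro hb
      have := (hvB _ hb).eq
      rwa [show b = v' * b * v'⁻¹ from ?_]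
      have h' : v' * (v' * b * v'⁻¹) = (v' * b * v'⁻¹) * v' := this.symm
      rw [inv_mul_cancel_right] at h'
      exact (mul_left_cancel h').symm)
  have hcop' : (Nat.card (B ⊔ zpowers v' : Subgroup G)).Coprime (Nat.card (oddOf H)) := by
    rw [sup_comm]
    refine CfsgLib.Core.coprime_card_sup hzB ?_ hcop
    rw [Nat.card_zpowers, hv2]
    exact Nat.coprime_two_left.2 (Sig.odd_oddOf H)
  obtain ⟨w', hw', hw2, hqw, hwB⟩ := lift (hBC.trans fun b hb => hb.1) hcop' h.hw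
    fun b hb => (hBC hb).2
  refine ⟨v', w', hv', hw', hv2, hw2, fun e => h.ne ?_, hwB v' (mem_sup_right (mem_zpowers v')), hqv, hqw,
    hvB, fun b hb => hwB b (mem_sup_left hb)⟩
  subst e
  exact hqv.symm.trans hqw

end CfsgLib.GW.KFactsProof
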