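import Cfsg.Agent.Lib.GW.KFactsProof.Small
import Cfsg.Agent.Lib.GW.KFactsProof.Lift

/-!
# `KFacts` in a minimal counterexample

`kfacts`: the facts of `Sig.KFacts` about proper subgroups, from the known structure of proper
perfect subgroups (`Dne.Hyp.known`), read off `shape` and `shape_facts`.
-/

set_option autoImplicit false

namespace CfsgLib.GW.KFactsProof

open Subgroup
open CfsgLib.GW.Sig (oddOf TwoElt InnerLike ElabMod RankTwo KFacts)
open CfsgLib.Signalizer (involution_sq involution_ne_one orderOf_eq_two_of)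

universe u

variable {G : Type u} [Group G] [Finite G] (σ : Dne.Hyp G) {H : Subgroup G}

/-- The automorphism of `H / O(H)` induced by an element normalising `H`. -/
noncomputable def autOf {x : G} (hx : x ∈ normalizer (H : Set G)) : MulAut (H ⧸ Cfsg.oddCore H) :=
  QuotientGroup.congr _ _ (normalizerMonoidHom H ⟨x, hx⟩) (CfsgLib.Core.map_equiv_pPrimeCore _)

omit [Finite G] in
theorem autOf_q {x a : G} (hx : x ∈ normalizer (H : Set G)) (ha : a ∈ H) :
    autOf hx (q H ⟨a, ha⟩) = q H ⟨x * a * x⁻¹, (mem_normalizer_iff.1 hx a).1 ha⟩ := rfl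

omit [Finite G] in
theorem autOf_sq {x : G} (hx : x ∈ normalizer (H : Set G)) (hx2 : orderOf x = 2) :
    autOf hx * autOf hx = 1 := by
  refine MulEquiv.ext fun k => ?_
  obtain ⟨⟨a, ha⟩, rfl⟩ := QuotientGroup.mk'_surjective _ k
  rw [MulAut.mul_apply, autOf_q hx ha, autOf_q hx, MulAut.one_apply]
  refine congrArg (q H) (Subtype.ext ?_)
  show x * (x * a * x⁻¹) * x⁻¹ = a
  rw [show x * (x * a * x⁻¹) * x⁻¹ = x * x * a * (x * x)⁻¹ by group, involution_sq hx2, one_mul, inv_one,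
    mul_one]

include σ

theorem tame_autOf {x : G} (hx : x ∈ normalizer (H : Set G)) (hx2 : orderOf x = 2) : Tame (autOf hx) := by
  refine ⟨autOf_sq hx hx2, fun v w h hv hw => ?_⟩
  have hfix : ∀ k, autOf hx k = k → ∀ b ∈ zpowers x, ∀ z, ∀ hz : z ∈ H, q H ⟨z, hz⟩ = k →
      b * z * b⁻¹ * z⁻¹ ∈ oddOf H := by
    intro k hk b hb z hz e
    have hb' : b = 1 ∨ b = x := by
      obtain ⟨j, rfl⟩ := mem_zpowers_iff.1 hb
      rw [← zpow_mod_orderOf, hx2]
      rcases Int.emod_two_eq j with e | e <;> simp [e]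
    rcases hb' with rfl | rfl
    · simp
    · rw [← e, autOf_q hx hz] at hk
      exact (q_eq_q _ hz).1 hk
  have hcop : (Nat.card (zpowers x)).Coprime (Nat.card (oddOf H)) := by
    rw [Nat.card_zpowers, hx2]
    exact Nat.coprime_two_left.2 (Sig.odd_oddOf H)
  obtain ⟨v', w', hv', hw', hv2, hw2, hne, hc, rfl, rfl, hxv, hxw⟩ :=
    exists_lift_four (zpowers_le.2 hx) hcop h (hfix v hv) (hfix w hw)
  have hxH : ∀ k, ∀ hk : k ∈ H, x = k → autOf hx = MulAut.conj (q H ⟨k, hk⟩) := by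
    rintro _ hk rfl
    refine MulEquiv.ext fun y => ?_
    obtain ⟨⟨a, ha⟩, rfl⟩ := QuotientGroup.mk'_surjective _ y
    rw [autOf_q hx ha, MulAut.conj_apply, ← map_inv, ← map_mul, ← map_mul]
    rfl
  rcases three_involutions σ.inj σ.range σ.pos hv2 hw2 (involution_sq hx2) hne hc
    (hxv x (mem_zpowers x)).symm (hxw x (mem_zpowers x)).symm with e | e | e | e
  · exact absurd e (involution_ne_one hx2)
  · exact ⟨_, Or.inl rfl, hxH v' hv' e⟩
  · exact ⟨_, Or.inr (Or.inl rfl), hxH w' hw' e⟩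
  · exact ⟨_, Or.inr (Or.inr (map_mul (q H) ⟨v', hv'⟩ ⟨w', hw'⟩)), hxH _ (mul_mem hv' hw') e⟩

variable {r : ℕ} [Fact r.Prime]

theorem facts_quot (hr : r ≠ 2) (hH : H ≠ ⊤) : Facts (H ⧸ Cfsg.oddCore H) r :=
  shape_facts hr (shape σ H hH)

omit σ in
/-- A four-group of the inner part commuting with given elements modulo the core. -/
theorem exists_four_in {N : Subgroup G} (hN : InnerLike H N) {v w : H ⧸ Cfsg.oddCore H} (hv : v ∈ img H N)
    (hw : w ∈ img H N) (h : Four v w) :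
    ∃ (x y : G) (hx : x ∈ H) (hy : y ∈ H), x ∈ N ∧ y ∈ N ∧ orderOf x = 2 ∧ orderOf y = 2 ∧ x ≠ y ∧
      Commute x y ∧ q H ⟨x, hx⟩ = v ∧ q H ⟨y, hy⟩ = w := by
  have h1 : ∀ k : H ⧸ Cfsg.oddCore H, ∀ b ∈ (⊥ : Subgroup G), ∀ z, ∀ hz : z ∈ H, q H ⟨z, hz⟩ = k →
      b * z * b⁻¹ * z⁻¹ ∈ oddOf H := fun k b hb z _ _ => by
    rw [mem_bot.1 hb]; simp
  obtain ⟨x, y, hx, hy, hx2, hy2, hne, hc, rfl, rfl, -⟩ :=
    exists_lift_four (B := ⊥) bot_le (by rw [Subgroup.card_bot]; exact Nat.coprime_one_left _) h (h1 v) (h1 w)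
  exact ⟨x, y, hx, hy, mem_of_img hN.core_le hx hv, mem_of_img hN.core_le hy hw, hx2, hy2, hne, hc, rfl, rfl⟩

/-- The facts about proper subgroups hold. -/
theorem kfacts (hr : r ≠ 2) : KFacts G r := by
  constructor
  case four =>
    intro H N hH hN
    rcases (facts_quot σ hr hH).four _ (innerN_img hN) with ⟨v, hv, w, hw, h⟩ | h
    · obtain ⟨x, y, -, -, hxN, hyN, hx2, hy2, hne, hc, -⟩ := exists_four_in hN hv hw h
      exact Or.inl ⟨x, hxN, y, hyN, hx2, hy2, hne, hc⟩
    · refine Or.inr fun g hg hgo x hx => (commute_iff hg (hN.le hx)).1 (h _ ?_ _ (mem_img hx (hN.le hx)))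
      exact hgo.of_dvd_nat ((orderOf_map_dvd (q H) ⟨g, hg⟩).trans (Subgroup.orderOf_mk g hg).dvd)
  case quot =>
    intro H N A hH hN hA
    rw [card_eq hA.le, card_inf_eq hN, ← mul_assoc]
    exact Nat.mul_le_mul_right _ ((facts_quot σ hr hH).quot _ _ (innerN_img hN) (eAb_img hA))
  case comm =>
    intro H N A hH hN hA hbig x hx2 hx a ha
    have h := (facts_quot σ hr hH).comm _ _ (innerN_img hN) (eAb_img hA) (sq_le_card_img hA hbig)
      (autOf hx) _ (mem_img ha (hA.le ha))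
    rw [← map_inv, show (⟨a, hA.le ha⟩ : H)⁻¹ = ⟨a⁻¹, inv_mem (hA.le ha)⟩ from rfl, autOf_q,
      ← map_mul] at h
    have h' : a * (x * a⁻¹ * x⁻¹) ∈ N := mem_of_img hN.core_le _ h
    rwa [show a * (x * a⁻¹ * x⁻¹) = a * x * a⁻¹ * x⁻¹ by group] at h'
  case abel =>
    intro H N A hH hN hAN hA a ha b hb
    exact (commute_iff (hN.le (hAN ha)) (hN.le (hAN hb))).1 ((facts_quot σ hr hH).abel _ _ (innerN_img hN)
      (img_mono hAN) (isPGroup_img hA) _ (mem_img ha _) _ (mem_img hb _))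
  case expAbel =>
    intro H F hH hFH hpow x hx2 hx hcases a ha b hb
    refine (commute_iff (hFH ha) (hFH hb)).1 ((facts_quot σ hr hH).expAbel (img H F) (fun k hk => ?_)
      (autOf hx) (tame_autOf σ hx hx2) ?_ _ (mem_img ha _) _ (mem_img hb _))
    · obtain ⟨c, hc, hcH, rfl⟩ := exists_of_mem_img hk
      rw [← map_pow, show (⟨c, hcH⟩ : H) ^ r = 1 from Subtype.ext (hpow c hc), map_one]
    rcases hcases with hfix | hinv
    · refine Or.inl fun k hk => ?_
      obtain ⟨c, hc, hcH, rfl⟩ := exists_of_mem_img hk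
      rw [autOf_q hx hcH]
      refine congrArg (q H) (Subtype.ext ?_)
      show x * c * x⁻¹ = c
      rw [← (hfix c hc).eq, mul_inv_cancel_right]
    · refine Or.inr fun k hk => ?_
      obtain ⟨c, hc, hcH, rfl⟩ := exists_of_mem_img hk
      refine q_mem_closure (S := {a | a ∈ F ∧ x * a * x⁻¹ = a⁻¹})
        (T := {a | a ∈ img H F ∧ autOf hx a = a⁻¹}) (fun y hy => ⟨hFH hy.1, subset_closure
        ⟨mem_img hy.1 _, ?_⟩⟩) (mem_sup_right (hinv hc)) hcH
      rw [autOf_q hx, ← map_inv]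
      exact congrArg (q H) (Subtype.ext hy.2)
  case free =>
    intro H N A hH hN hA hAN hbig x hx2 hx hxA a ha hcomm
    refine (q_eq_one (hA.le ha)).1 ((facts_quot σ hr hH).free _ _ (innerN_img hN) (eAb_img hA)
      (img_mono hAN) (sq_le_card_img hA hbig) (autOf hx) (tame_autOf σ hx hx2) (fun k hk => ?_) _
      (mem_img ha _) ?_)
    · obtain ⟨c, hc, hcH, rfl⟩ := exists_of_mem_img hk
      rw [autOf_q hx hcH]
      exact mem_img ((mem_normalizer_iff.1 hxA c).1 hc) _
    · rw [autOf_q hx]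
      refine congrArg (q H) (Subtype.ext ?_)
      show x * a * x⁻¹ = a
      rw [← hcomm.eq, mul_inv_cancel_right]
  case outer =>
    intro H N A hH hN hA hbig a ha haN
    obtain ⟨v, hv, w, hw, h, hva, hwa⟩ := (facts_quot σ hr hH).outer _ _ (innerN_img hN) (eAb_img hA)
      (sq_le_card_img hA hbig) _ (mem_img ha (hA.le ha)) fun h => haN (mem_of_img hN.core_le _ h)
    obtain ⟨x, y, hx, hy, hxN, hyN, hx2, hy2, hne, hc, rfl, rfl⟩ := exists_four_in hN hv hw h
    exact ⟨x, hxN, y, hyN, hx2, hy2, hne, hc, (commute_iff hx _).1 hva, (commute_iff hy _).1 hwa⟩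
  case bigInner =>
    intro H N A hH hN hA hbig R hAR hRn a ha
    have hbig' : r ^ 2 ≤ Nat.card (img H A ⊓ img H N : Subgroup _) := by
      rw [card_inf_eq hN] at hbig
      exact Nat.le_of_mul_le_mul_right hbig Nat.card_pos
    refine mem_of_img hN.core_le (hA.le ha) ((facts_quot σ hr hH).bigInner _ _ (innerN_img hN) (eAb_img hA)
      hbig' (R.mapSurjective (QuotientGroup.mk'_surjective _)) ?_ ?_ (mem_img ha _))
    · intro k hk
      obtain ⟨c, hc, hcH, rfl⟩ := exists_of_mem_img hk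
      obtain ⟨y, hy, e⟩ := hAR hc
      exact ⟨y, hy, congrArg (q H) (Subtype.ext e)⟩
    · rintro _ ⟨g, hg, rfl⟩
      refine mem_normalizer_of_conj fun k hk => ?_
      obtain ⟨c, hc, hcH, rfl⟩ := exists_of_mem_img hk
      have h1 := (mem_normalizer_iff.1 (hRn (mem_map_of_mem H.subtype hg)) c).1 (mem_sup_left hc)
      rw [← map_inv, ← map_mul, ← map_mul]
      have hle : A ⊔ oddOf H ≤ ((img H A).comap (q H)).map H.subtype := sup_le
        (fun z hz => ⟨⟨z, hA.le hz⟩, mem_img hz _, rfl⟩)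
        (fun z hz => ⟨⟨z, Sig.oddOf_le H hz⟩, by
          show q H _ ∈ img H A
          rw [(q_eq_one _).2 hz]; exact one_mem _, rfl⟩)
      obtain ⟨z, hz, e⟩ := hle h1
      obtain rfl : z = g * ⟨c, hcH⟩ * g⁻¹ := Subtype.ext e
      exact hz
  case bigSelf =>
    intro H N A hH hN hA hAN hbig P hAP hnorm x hxH hx
    set P' : Subgroup G := (P : Subgroup N).map N.subtype with hP'
    have hP'N : P' ≤ N := map_subtype_le _
    let φ : N →* img H N := ((q H).comp (inclusion hN.le)).codRestrict _ fun a => mem_img a.2 _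
    have hφ : Function.Surjective φ := fun k => by
      obtain ⟨a, ha, haH, e⟩ := exists_of_mem_img k.2
      exact ⟨⟨a, ha⟩, Subtype.ext e⟩
    refine mem_sup_of_img hxH ((facts_quot σ hr hH).bigSelf _ _ (innerN_img hN) (eAb_img hA) (img_mono hAN)
      (sq_le_card_img hA hbig) (img H P') (isPGroup_img (P.2.map _)) (img_mono hP'N)
      (fun Q hQ hPQ hQN => ?_) (img_mono hAP) ?_ _ fun a ha => ?_)
    · have h1 : ((P.mapSurjective hφ : Sylow r (img H N)) : Subgroup (img H N)) ≤ Q.subgroupOf (img H N) := by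
        rintro _ ⟨p, hp, rfl⟩
        exact hPQ (mem_img (mem_map_of_mem _ hp) _)
      have h2 := (P.mapSurjective hφ).is_maximal' (hQ.comap_of_injective (img H N).subtype
        (img H N).subtype_injective) h1
      refine le_antisymm (fun k hk => ?_) hPQ
      have hk' : (⟨k, hQN hk⟩ : img H N) ∈ Q.subgroupOf (img H N) := hk
      rw [show Q.subgroupOf (img H N) = _ from h2] at hk'
      obtain ⟨p, hp, e⟩ := hk'
      rw [← show (φ p : H ⧸ Cfsg.oddCore H) = k from congrArg Subtype.val e]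
      exact mem_img (mem_map_of_mem N.subtype hp) _
    · rintro k ⟨hkN, hkP⟩
      obtain ⟨z, hzN, hzH, rfl⟩ := exists_of_mem_img hkN
      set Y := P' ⊔ oddOf H with hY
      have hYN : Y ≤ N := sup_le hP'N hN.core_le
      have hzY : z ∈ normalizer (Y : Set G) := by
        refine mem_normalizer_of_conj fun y hy => ?_
        have hyH := hN.le (hYN hy)
        refine mem_sup_of_img (mul_mem (mul_mem hzH hyH) (inv_mem hzH)) ?_
        have hy' : q H ⟨y, hyH⟩ ∈ img H P' := by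
          have := Subgroup.map_sup (P'.subgroupOf H) ((oddOf H).subgroupOf H) (q H)
          have hle : Y ≤ ((img H P').comap (q H)).map H.subtype := sup_le
            (fun a ha => ⟨⟨a, hN.le (hP'N ha)⟩, mem_img ha _, rfl⟩)
            (fun a ha => ⟨⟨a, Sig.oddOf_le H ha⟩, by
              show q H _ ∈ img H P'
              rw [(q_eq_one _).2 ha]; exact one_mem _, rfl⟩)
          obtain ⟨u, hu, e⟩ := hle hy
          obtain rfl : u = ⟨y, hyH⟩ := Subtype.ext e
          exact hu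
        exact (mem_normalizer_iff.1 hkP _).1 hy'
      set M := N ⊓ normalizer (Y : Set G)
      have hYM : Y ≤ M := le_inf hYN le_normalizer
      haveI : (Y.subgroupOf M).Normal := ⟨fun n hn g => (mem_normalizer_iff.1 g.2.2 _).1 hn⟩
      let ι : Y.subgroupOf M →* N := (inclusion (inf_le_left : M ≤ N)).comp (Y.subgroupOf M).subtype
      have hι : Function.Injective ι :=
        (inclusion_injective (inf_le_left : M ≤ N)).comp (Y.subgroupOf M).subtype_injective
      let P₁ : Sylow r (Y.subgroupOf M) := P.comapOfInjective ι hι fun p hp =>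
        ⟨⟨⟨p, hYM (mem_sup_left (mem_map_of_mem _ hp))⟩, mem_sup_left (mem_map_of_mem _ hp)⟩, rfl⟩
      have hzM : (⟨z, hzN, hzY⟩ : M) ∈ normalizer ((P₁ : Subgroup _).map (Y.subgroupOf M).subtype : Set M) ⊔
          Y.subgroupOf M := by
        rw [Sylow.normalizer_sup_eq_top P₁]; exact mem_top _
      have hleA : normalizer ((P₁ : Subgroup _).map (Y.subgroupOf M).subtype : Set M) ⊔ Y.subgroupOf M ≤
          (normalizer ((A ⊔ oddOf H : Subgroup G) : Set G)).subgroupOf M := by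
        refine sup_le (fun n hn => hnorm ⟨n.2.1, mem_normalizer_of_conj ?_⟩) (fun y hy => ?_)
        · rintro _ ⟨p, hp, rfl⟩
          have hpY : (p : G) ∈ Y := mem_sup_left (mem_map_of_mem N.subtype hp)
          obtain ⟨b, hb, e⟩ := (mem_normalizer_iff.1 hn ⟨p, hYM hpY⟩).1
            ⟨⟨⟨p, hYM hpY⟩, hpY⟩, hp, rfl⟩
          exact ⟨_, hb, congrArg Subtype.val e⟩
        · refine (?_ : Y ≤ normalizer ((A ⊔ oddOf H : Subgroup G) : Set G)) hy
          exact sup_le ((le_inf hP'N le_normalizer).trans hnorm) (le_sup_right.trans le_normalizer)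
      refine mem_normalizer_of_conj fun k hk => ?_
      obtain ⟨c, hc, hcH, rfl⟩ := exists_of_mem_img hk
      have h1 := (mem_normalizer_iff.1 (mem_subgroupOf.1 (hleA hzM)) c).1 (mem_sup_left hc)
      have hle : A ⊔ oddOf H ≤ ((img H A).comap (q H)).map H.subtype := sup_le
        (fun b hb => ⟨⟨b, hA.le hb⟩, mem_img hb _, rfl⟩)
        (fun b hb => ⟨⟨b, Sig.oddOf_le H hb⟩, by
          show q H _ ∈ img H A
          rw [(q_eq_one _).2 hb]; exact one_mem _, rfl⟩)
      obtain ⟨b, hb, e⟩ := hle h1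
      rw [← map_inv, ← map_mul, ← map_mul]
      obtain rfl : b = ⟨z, hzH⟩ * ⟨c, hcH⟩ * ⟨z, hzH⟩⁻¹ := Subtype.ext e
      exact hb
    · obtain ⟨a, haA, haH, rfl⟩ := exists_of_mem_img ha
      exact ((commute_iff hxH haH).2 (hx a haA)).symm.symm
  case cent =>
    intro H N A hH hN hA hAN hbig a ha haO x hxN hxo hxa
    have hxH := hN.le hxN
    obtain ⟨k, hk⟩ := (facts_quot σ hr hH).cent _ _ (innerN_img hN) (eAb_img hA) (img_mono hAN)
      (sq_le_card_img hA hbig) _ (mem_img ha (hA.le ha)) (fun e => haO ((q_eq_one _).1 e)) _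
      (mem_img hxN hxH) (hxo.of_dvd_nat ((orderOf_map_dvd (q H) ⟨x, hxH⟩).trans (Subgroup.orderOf_mk x hxH).dvd))
      ((commute_iff hxH (hA.le ha)).2 hxa)
    rw [← map_pow] at hk
    exact ⟨k, (q_eq_one (pow_mem hxH _)).1 hk⟩

end CfsgLib.GW.KFactsProof
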