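import Mathlib

/-!
# Subgroups of order nine and involutions of the symmetric group on seven letters

The three facts needed for `A₇`: centralisers of `3`-elements, the centraliser and the fixed points
of normalising involutions of a Sylow `3`-subgroup, and four-groups fixed by odd involutions.
Finite checks run over the permutations encoded as lists.
-/

set_option autoImplicit false
set_option maxRecDepth 100000
set_option Elab.async false

namespace CfsgLib.GW.KFactsProof.Perms

open Equiv

/-- The list of images. -/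
def enc (σ : Perm (Fin 7)) : List ℕ := List.ofFn fun i => (σ i : ℕ)

theorem enc_injective : Function.Injective enc := fun σ τ h =>
  Equiv.ext fun i => Fin.ext (congrFun (List.ofFn_inj.1 h) i)

/-- Composition of lists of images. -/
def comp (l m : List ℕ) : List ℕ := m.map fun i => l.getD i 0

/-- The encoding of the identity. -/
def idL : List ℕ := [0, 1, 2, 3, 4, 5, 6]

theorem enc_one : enc 1 = idL := by decide

theorem enc_getD (σ : Perm (Fin 7)) (i : Fin 7) : (enc σ).getD i 0 = (σ i : ℕ) := by
  rw [enc, List.getD_eq_getElem _ _ (by rw [List.length_ofFn]; exact i.2), List.getElem_ofFn]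

theorem enc_mul (σ τ : Perm (Fin 7)) : enc (σ * τ) = comp (enc σ) (enc τ) := by
  conv_rhs => rw [comp, enc.eq_def τ, List.map_ofFn]
  rw [enc]
  congr 1
  funext i
  rw [Function.comp_apply, enc_getD]
  rfl

/-- The injective lists of length `n` over seven values. -/
def ext : ℕ → List (List ℕ)
  | 0 => [[]]
  | n + 1 => (ext n).flatMap fun l => ((List.range 7).filter fun v => !l.contains v).map fun v => l ++ [v]

theorem take_mem_ext (σ : Perm (Fin 7)) : ∀ k, k ≤ 7 → (enc σ).take k ∈ ext k
  | 0, _ => by simp [ext]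
  | k + 1, hk => by
    have hlen : k < (enc σ).length := by rw [enc, List.length_ofFn]; omega
    rw [List.take_succ_eq_append_getElem hlen, ext, List.mem_flatMap]
    refine ⟨_, take_mem_ext σ k (by omega), List.mem_map.2 ⟨_, List.mem_filter.2 ⟨?_, ?_⟩, rfl⟩⟩
    · simp only [enc, List.getElem_ofFn, List.mem_range]
      exact (σ ⟨k, _⟩).2
    · have hnd : (enc σ).Nodup := List.nodup_ofFn.2 (Fin.val_injective.comp σ.injective)
      simp only [Bool.not_eq_true', List.contains_eq_mem, decide_eq_false_iff_not]
      intro hmem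
      obtain ⟨j, hj, e⟩ := List.mem_iff_getElem.1 hmem
      rw [List.getElem_take] at e
      rw [List.length_take] at hj
      exact absurd (hnd.getElem_inj_iff.1 e) (by omega)

theorem enc_mem_ext (σ : Perm (Fin 7)) : enc σ ∈ ext 7 := by
  have h := take_mem_ext σ 7 le_rfl
  rwa [List.take_of_length_le (by rw [enc, List.length_ofFn])] at h

/-- Two disjoint three-cycles. -/
def c1 : Perm (Fin 7) := swap 0 1 * swap 1 2

/-- Two disjoint three-cycles. -/
def c2 : Perm (Fin 7) := swap 3 4 * swap 4 5

/-- The elements of a Sylow `3`-subgroup. -/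
def nine : List (Perm (Fin 7)) :=
  [1, c1, c1 * c1, c2, c2 * c2, c1 * c2, c1 * (c2 * c2), c1 * c1 * c2, c1 * c1 * (c2 * c2)]

/-- Their encodings. -/
def nineL : List (List ℕ) := nine.map enc

theorem mem_nine {x : Perm (Fin 7)} : x ∈ nine ↔ enc x ∈ nineL :=
  (List.mem_map_of_injective enc_injective).symm

/-- A Sylow `3`-subgroup. -/
def P0 : Subgroup (Perm (Fin 7)) where
  carrier := {x | x ∈ nine}
  one_mem' := List.mem_cons_self
  mul_mem' := by
    intro a b ha hb
    have h : nineL.all (fun a => nineL.all fun b => nineL.contains (comp a b)) = true := by decide +kernel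
    rw [Set.mem_ofPred_eq, mem_nine] at ha hb ⊢
    rw [enc_mul]
    simpa using List.all_eq_true.1 (List.all_eq_true.1 h _ ha) _ hb
  inv_mem' := by
    intro a ha
    have h : nineL.all (fun a => comp a (comp a a) == enc 1 && nineL.contains (comp a a)) = true := by
      decide +kernel
    rw [Set.mem_ofPred_eq, mem_nine] at ha ⊢
    have h1 := List.all_eq_true.1 h _ ha
    simp only [Bool.and_eq_true, beq_iff_eq, ← enc_mul] at h1
    rw [show a⁻¹ = a * a from inv_eq_of_mul_eq_one_right (enc_injective h1.1)]
    simpa using h1.2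

theorem mem_P0 {x : Perm (Fin 7)} : x ∈ P0 ↔ enc x ∈ nineL := mem_nine

theorem c1_mem : c1 ∈ P0 := by rw [mem_P0]; decide +kernel

theorem c2_mem : c2 ∈ P0 := by rw [mem_P0]; decide +kernel

theorem card_P0 : Nat.card P0 = 9 := by
  have h : nine.Nodup := List.Nodup.of_map enc (show nineL.Nodup by decide +kernel)
  calc Nat.card P0 = Nat.card {x // x ∈ nine.toFinset} :=
        Nat.card_congr (Equiv.subtypeEquivRight fun x => List.mem_toFinset.symm)
    _ = 9 := by rw [Nat.card_eq_fintype_card, Fintype.card_coe, List.toFinset_card_of_nodup h]; rfl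

theorem card_perm : Nat.card (Perm (Fin 7)) = 3 ^ 2 * 560 := by
  rw [Nat.card_eq_fintype_card, Fintype.card_perm, Fintype.card_fin]
  rfl

/-- The subgroups of order nine are conjugate. -/
theorem exists_conj {A : Subgroup (Perm (Fin 7))} (hA : Nat.card A = 9) :
    ∃ c : Perm (Fin 7), ∀ x, x ∈ A ↔ c * x * c⁻¹ ∈ P0 := by
  haveI : Fact (Nat.Prime 3) := ⟨by norm_num⟩
  have key : ∀ B : Subgroup (Perm (Fin 7)), Nat.card B = 9 →
      ∃ P : Sylow 3 (Perm (Fin 7)), (P : Subgroup (Perm (Fin 7))) = B := by
    intro B hB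
    refine ⟨Sylow.ofCard B ?_, rfl⟩
    rw [hB, card_perm, Nat.factorization_mul (by norm_num) (by norm_num), Finsupp.add_apply,
      Nat.factorization_pow_self (by norm_num), Nat.factorization_eq_zero_of_not_dvd (by norm_num)]
    norm_num
  obtain ⟨P, rfl⟩ := key A hA
  obtain ⟨Q, hQ⟩ := key P0 card_P0
  obtain ⟨c, rfl⟩ := MulAction.exists_smul_eq (Perm (Fin 7)) P Q
  refine ⟨c, fun x => ?_⟩
  rw [← hQ]
  constructor
  · exact fun hx => ⟨x, hx, rfl⟩
  · rintro ⟨y, hy, e⟩
    exact ((MulAut.conj c).injective e : y = x) ▸ hy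

theorem centralizer_P0 {x : Perm (Fin 7)} (h1 : Commute c1 x) (h2 : Commute c2 x) : x ∈ P0 := by
  have h : (ext 7).all (fun l => !(comp (enc c1) l == comp l (enc c1) && comp (enc c2) l == comp l (enc c2)) ||
      nineL.contains l) = true := by decide +kernel
  have hx := List.all_eq_true.1 h _ (enc_mem_ext x)
  simp only [← enc_mul, h1.eq, h2.eq, beq_self_eq_true, Bool.and_true, Bool.not_true, Bool.false_or] at hx
  exact mem_P0.2 (by simpa using hx)

/-- Representatives of the non-trivial elements up to inversion. -/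
def reps : List (List ℕ) := [[1, 2, 0, 3, 4, 5, 6], [0, 1, 2, 4, 5, 3, 6], [1, 2, 0, 4, 5, 3, 6], [2, 0, 1, 4, 5, 3, 6]]

/-- The twelfth power of an encoded permutation. -/
def pow12 (l : List ℕ) : List ℕ :=
  let l3 := comp l (comp l l)
  comp (comp l3 l3) (comp l3 l3)

theorem pow_twelve_of_commute {a x : Perm (Fin 7)} (ha : a ∈ P0) (ha1 : a ≠ 1) (h : Commute a x) :
    x ^ 12 = 1 := by
  have hreps : nineL.all (fun a => a == idL || reps.contains a || reps.contains (comp a a)) = true := by
    decide +kernel
  have h' : (ext 7).all (fun l => reps.all fun a => !(comp a l == comp l a) || pow12 l == idL) = true := by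
    decide +kernel
  have main : ∀ b : Perm (Fin 7), enc b ∈ reps → Commute b x → x ^ 12 = 1 := by
    intro b hb hbx
    have hx := List.all_eq_true.1 (List.all_eq_true.1 h' _ (enc_mem_ext x)) _ hb
    simp only [← enc_mul, hbx.eq, beq_self_eq_true, Bool.not_true, Bool.false_or, pow12, ← enc_one,
      beq_iff_eq] at hx
    have e' := enc_injective hx
    simpa [pow_succ, mul_assoc] using e'
  have hr := List.all_eq_true.1 hreps _ (mem_P0.1 ha)
  simp only [Bool.or_eq_true, beq_iff_eq, List.contains_eq_mem, decide_eq_true_eq, ← enc_mul, ← enc_one] at hr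
  rcases hr with (e | e) | e
  · exact absurd (enc_injective e) ha1
  · exact main a e h
  · exact main (a * a) e (h.mul_left h)

/-- The number of moved points. -/
def moved (l : List ℕ) : ℕ := ((List.range 7).filter fun i => !(l.getD i 0 == i)).length

theorem moved_enc (x : Perm (Fin 7)) : moved (enc x) = x.support.card := by
  have h : (List.range 7) = (List.finRange 7).map Fin.val := by decide
  rw [moved, h, List.filter_map, List.length_map,
    show x.support = ((List.finRange 7).filter fun i : Fin 7 => !((enc x).getD (i : ℕ) 0 == (i : ℕ))).toFinset by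
      ext i
      simp only [Perm.mem_support, List.mem_toFinset, List.mem_filter, List.mem_finRange, true_and, enc_getD]
      simp [Fin.val_eq_val],
    List.toFinset_card_of_nodup ((List.nodup_finRange 7).filter _)]
  rfl

theorem eq_one_of_normalizing {x a : Perm (Fin 7)} (h2 : x * x = 1) (hm : x.support.card = 4)
    (hn1 : x * c1 * x ∈ P0) (hn2 : x * c2 * x ∈ P0) (ha : a ∈ P0) (hc : Commute a x) : a = 1 := by
  have h : (ext 7).all (fun l => !(comp l l == idL && moved l == 4 && nineL.contains (comp (comp l (enc c1)) l) &&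
      nineL.contains (comp (comp l (enc c2)) l)) ||
      nineL.all fun a => !(comp a l == comp l a) || a == idL) = true := by decide +kernel
  have hx := List.all_eq_true.1 h _ (enc_mem_ext x)
  rw [moved_enc, hm, ← enc_mul, ← enc_mul, ← enc_mul, ← enc_mul, ← enc_mul, h2, ← enc_one] at hx
  simp only [beq_self_eq_true, List.contains_eq_mem, mem_P0.1 hn1, mem_P0.1 hn2, decide_true, Bool.and_true,
    Bool.not_true, Bool.false_or] at hx
  have ha' := List.all_eq_true.1 hx _ (mem_P0.1 ha)
  simp only [← enc_mul, hc.eq, beq_self_eq_true, Bool.not_true, Bool.false_or, beq_iff_eq] at ha'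
  exact enc_injective ha'

/-- An involution has two-cycles only. -/
theorem exists_cycleType {x : Perm (Fin 7)} (h : x * x = 1) :
    ∃ k, x.cycleType = Multiset.replicate k 2 ∧ k ≤ 3 := by
  refine ⟨Multiset.card x.cycleType, Multiset.eq_replicate.2 ⟨rfl, fun b hb => ?_⟩, ?_⟩
  · have h2 := Perm.two_le_of_mem_cycleType hb
    have hd : b ∣ 2 := (Perm.dvd_of_mem_cycleType hb).trans (orderOf_dvd_of_pow_eq_one (by rw [pow_two, h]))
    have := Nat.le_of_dvd two_pos hd
    omega
  · have hs := x.sum_cycleType
    have hle : x.support.card ≤ 7 := (Finset.card_le_univ _).trans (by simp)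
    have := Multiset.card_nsmul_le_sum (s := x.cycleType) (a := 2) fun b hb => Perm.two_le_of_mem_cycleType hb
    rw [hs, smul_eq_mul] at this
    omega

/-- A non-trivial even involution moves four points. -/
theorem support_of_even {x : Perm (Fin 7)} (h : x * x = 1) (h1 : x ≠ 1) (hs : Perm.sign x = 1) :
    x.support.card = 4 := by
  obtain ⟨k, hk, hk3⟩ := exists_cycleType h
  rw [← x.sum_cycleType, hk, Multiset.sum_replicate]
  rw [Perm.sign_of_cycleType, hk, Multiset.sum_replicate, Multiset.card_replicate] at hs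
  have hk0 : k ≠ 0 := fun e => h1 (Perm.cycleType_eq_zero.1 (by rw [hk, e]; rfl))
  interval_cases k
  · exact absurd rfl hk0
  · exact absurd hs (by decide)
  · rfl
  · exact absurd hs (by decide)

/-- An odd involution fixes an even four-group. -/
theorem exists_four_of_odd {x : Perm (Fin 7)} (h : x * x = 1) (hs : Perm.sign x ≠ 1) :
    ∃ v w : Perm (Fin 7), Perm.sign v = 1 ∧ Perm.sign w = 1 ∧ orderOf v = 2 ∧ orderOf w = 2 ∧ v ≠ w ∧
      Commute v w ∧ Commute x v ∧ Commute x w := by
  obtain ⟨k, hk, hk3⟩ := exists_cycleType h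
  have main : ∀ (y v w : Perm (Fin 7)), y.cycleType = x.cycleType → Perm.sign v = 1 → Perm.sign w = 1 →
      v * v = 1 → w * w = 1 → v ≠ 1 → w ≠ 1 → v ≠ w → v * w = w * v → y * v = v * y → y * w = w * y →
      ∃ v w : Perm (Fin 7), Perm.sign v = 1 ∧ Perm.sign w = 1 ∧ orderOf v = 2 ∧ orderOf w = 2 ∧ v ≠ w ∧
        Commute v w ∧ Commute x v ∧ Commute x w := by
    intro y v w hy sv sw v2 w2 v1 w1 hvw c cv cw
    obtain ⟨c', hc'⟩ := isConj_iff.1 (Perm.isConj_iff_cycleType_eq.2 hy)
    refine ⟨MulAut.conj c' v, MulAut.conj c' w, ?_, ?_, ?_, ?_, fun e => hvw ((MulAut.conj c').injective e),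
      (show Commute v w from c).map (MulAut.conj c').toMonoidHom,
      hc' ▸ (show Commute y v from cv).map (MulAut.conj c').toMonoidHom,
      hc' ▸ (show Commute y w from cw).map (MulAut.conj c').toMonoidHom⟩
    · simp [MulAut.conj_apply, sv]
    · simp [MulAut.conj_apply, sw]
    · exact (orderOf_injective (MulAut.conj c').toMonoidHom (MulAut.conj c').injective v).trans
        (orderOf_eq_prime (by rw [pow_two, v2]) v1)
    · exact (orderOf_injective (MulAut.conj c').toMonoidHom (MulAut.conj c').injective w).trans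
        (orderOf_eq_prime (by rw [pow_two, w2]) w1)
  rw [Perm.sign_of_cycleType, hk, Multiset.sum_replicate, Multiset.card_replicate] at hs
  interval_cases k
  · exact absurd rfl hs
  · refine main (swap 0 1) (swap 2 3 * swap 4 5) (swap 2 4 * swap 3 5) ?_ (by decide) (by decide) ?_ ?_ ?_ ?_ ?_ ?_ ?_ ?_
    · rw [hk]; decide +kernel
    all_goals decide +kernel
  · exact absurd rfl hs
  · refine main (swap 0 1 * swap 2 3 * swap 4 5) (swap 0 1 * swap 2 3) (swap 2 3 * swap 4 5) ?_ (by decide)
      (by decide) ?_ ?_ ?_ ?_ ?_ ?_ ?_ ?_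
    · rw [hk]; decide +kernel
    all_goals decide +kernel

end CfsgLib.GW.KFactsProof.Perms
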