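import Cfsg.Agent.Lib.GW.KFactsProof.Model
import Cfsg.Agent.Lib.GW.KFactsProof.Perms
import Cfsg.Agent.Lib.ClassSizes.AlternatingAut

/-!
# The facts for `K ≅ A₇`
-/

set_option autoImplicit false

namespace CfsgLib.GW.KFactsProof

open Subgroup Equiv

variable {K : Type*} [Group K] (e : K ≃* alternatingGroup (Fin 7))

/-- The embedding into `S₇`. -/
def toPerm : K →* Perm (Fin 7) := (alternatingGroup (Fin 7)).subtype.comp e.toMonoidHom

theorem toPerm_injective : Function.Injective (toPerm e) :=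
  (alternatingGroup (Fin 7)).subtype_injective.comp e.injective

theorem sign_toPerm (k : K) : Perm.sign (toPerm e k) = 1 := Perm.mem_alternatingGroup.1 (e k).2

theorem exists_of_even {x : Perm (Fin 7)} (h : Perm.sign x = 1) : ∃ k, toPerm e k = x :=
  ⟨e.symm ⟨x, Perm.mem_alternatingGroup.2 h⟩,
    congrArg Subtype.val (e.apply_symm_apply ⟨x, Perm.mem_alternatingGroup.2 h⟩)⟩

/-- Only the identity commutes with all even permutations. -/
theorem eq_one_of_centralizes {g : Perm (Fin 7)}
    (h : ∀ x : Perm (Fin 7), Perm.sign x = 1 → Commute g x) : g = 1 := by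
  by_contra hne
  obtain ⟨i, hi⟩ : ∃ i, g i ≠ i := by
    by_contra hall
    push Not at hall
    exact hne (Equiv.ext hall)
  obtain ⟨j, hj⟩ : ∃ j : Fin 7, j ∉ ({i, g i} : Finset (Fin 7)) := by
    by_contra hall
    push Not at hall
    have := Finset.card_le_card (s := Finset.univ) fun x _ => hall x
    have := this.trans Finset.card_le_two
    simp at this
  obtain ⟨k, hk⟩ : ∃ k : Fin 7, k ∉ ({i, g i, j} : Finset (Fin 7)) := by
    by_contra hall
    push Not at hall
    have := Finset.card_le_card (s := Finset.univ) fun x _ => hall x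
    have := this.trans Finset.card_le_three
    simp at this
  simp only [Finset.mem_insert, Finset.mem_singleton, not_or] at hj hk
  have hs : Perm.sign (swap i j * swap j k) = 1 := by
    rw [map_mul, Perm.sign_swap (Ne.symm hj.1), Perm.sign_swap (Ne.symm hk.2.2)]
    decide
  have e1 := Equiv.congr_fun (h _ hs).eq i
  rw [Perm.mul_apply, Perm.mul_apply, Perm.mul_apply, Perm.mul_apply,
    swap_apply_of_ne_of_ne (x := i) (a := j) (b := k) (Ne.symm hj.1) (Ne.symm hk.1), swap_apply_left] at e1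
  rw [swap_apply_of_ne_of_ne (x := g i) (a := j) (b := k) (Ne.symm hj.2) (Ne.symm hk.2.1),
    swap_apply_of_ne_of_ne (x := g i) (a := i) (b := j) hi (Ne.symm hj.2)] at e1
  exact hj.1 (g.injective e1)

/-- An automorphism is a conjugation in `S₇`. -/
theorem exists_sigma (β : MulAut K) :
    ∃ s : Perm (Fin 7), ∀ k, toPerm e (β k) = s * toPerm e k * s⁻¹ := by
  obtain ⟨g, hg⟩ := CfsgLib.ClassSizes.AlternatingAut.exists_conjNormal_eq (by simp) (MulAut.congr e β)
    (CfsgLib.ClassSizes.AlternatingAut.map_isThreeCycle (by simp) (by simp) _)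
  refine ⟨g, fun k => ?_⟩
  have h := congrArg (fun f : MulAut (alternatingGroup (Fin 7)) => ((f (e k)) : Perm (Fin 7))) hg
  rw [MulAut.conjNormal_apply] at h
  rw [show (MulAut.congr e β) (e k) = e (β k) from congrArg (fun y => e (β y)) (e.symm_apply_apply k)] at h
  exact h.symm

include e in
theorem even_four : ∃ v w : K, Four v w := by
  obtain ⟨v, w, sv, sw, hv, hw, hne, hc, -⟩ :=
    Perms.exists_four_of_odd (x := swap (0 : Fin 7) 1) (Equiv.swap_mul_self 0 1)
      (by rw [Perm.sign_swap (by decide)]; decide)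
  obtain ⟨v', rfl⟩ := exists_of_even e sv
  obtain ⟨w', rfl⟩ := exists_of_even e sw
  exact ⟨v', w', Four.of_map (toPerm e) (toPerm_injective e) ⟨hv, hw, hne, hc⟩⟩

/-- A tame automorphism is conjugation by a non-trivial even involution. -/
theorem tame_sigma {β : MulAut K} (hβ : Tame β) {s : Perm (Fin 7)}
    (hs : ∀ k, toPerm e (β k) = s * toPerm e k * s⁻¹) : s * s = 1 ∧ s.support.card = 4 := by
  have hinner : ∀ {v w : K}, Four v w → β v = v → β w = w → ∃ k : K, k ≠ 1 ∧ s = toPerm e k := by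
    intro v w h hv hw
    obtain ⟨k, hk, hβk⟩ := hβ.four v w h hv hw
    refine ⟨k, ?_, ?_⟩
    · rintro rfl
      rcases hk with e' | e' | e'
      · exact orderOf_eq_one_iff.not.1 (by rw [h.hv]; norm_num) e'.symm
      · exact orderOf_eq_one_iff.not.1 (by rw [h.hw]; norm_num) e'.symm
      · refine h.ne ((eq_inv_of_mul_eq_one_left e'.symm).trans (inv_eq_of_mul_eq_one_right ?_))
        have h2 := pow_orderOf_eq_one w
        rwa [h.hw, pow_two] at h2
    · refine (inv_mul_eq_one.1 (eq_one_of_centralizes fun x hx => ?_) : toPerm e k = s).symm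
      obtain ⟨y, rfl⟩ := exists_of_even e hx
      have h1 := hs y
      rw [hβk, MulAut.conj_apply, map_mul, map_mul, map_inv] at h1
      show (toPerm e k)⁻¹ * s * toPerm e y = toPerm e y * ((toPerm e k)⁻¹ * s)
      calc (toPerm e k)⁻¹ * s * toPerm e y
          = (toPerm e k)⁻¹ * (s * toPerm e y * s⁻¹) * s := by group
        _ = toPerm e y * ((toPerm e k)⁻¹ * s) := by rw [← h1]; group
  have hsq : s * s = 1 := eq_one_of_centralizes fun x hx => by
    obtain ⟨y, rfl⟩ := exists_of_even e hx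
    have h1 := hs (β y)
    rw [← MulAut.mul_apply, hβ.sq, MulAut.one_apply, hs y] at h1
    show s * s * toPerm e y = toPerm e y * (s * s)
    conv_rhs => rw [h1]
    group
  have hev : Perm.sign s = 1 := by
    by_contra hodd
    obtain ⟨v, w, sv, sw, hv, hw, hne, hc, cv, cw⟩ := Perms.exists_four_of_odd hsq hodd
    obtain ⟨v', rfl⟩ := exists_of_even e sv
    obtain ⟨w', rfl⟩ := exists_of_even e sw
    have hfix : ∀ y, Commute s (toPerm e y) → β y = y := fun y hy =>
      toPerm_injective e (by rw [hs, hy.eq, mul_inv_cancel_right])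
    obtain ⟨k, -, rfl⟩ := hinner (Four.of_map (toPerm e) (toPerm_injective e) ⟨hv, hw, hne, hc⟩)
      (hfix _ cv) (hfix _ cw)
    exact hodd (sign_toPerm e k)
  refine ⟨hsq, Perms.support_of_even hsq (fun h1 => ?_) hev⟩
  obtain ⟨v, w, h⟩ := even_four e
  have hfix : ∀ y, β y = y := fun y => toPerm_injective e (by rw [hs, h1]; group)
  obtain ⟨k, hk, hk'⟩ := hinner h (hfix v) (hfix w)
  exact hk (toPerm_injective e (by rw [← hk', h1, map_one]))

section Facts

variable [Finite K]

include e in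
theorem card_K : Nat.card K * 2 = 5040 := by
  rw [Nat.card_congr e.toEquiv, Nat.card_eq_fintype_card, mul_comm, two_mul_card_alternatingGroup,
    Fintype.card_perm, Fintype.card_fin]
  rfl

include e in
theorem pGroup_small {r : ℕ} [hr : Fact r.Prime] (hr2 : r ≠ 2) {A : Subgroup K} (hA : IsPGroup r A) :
    Nat.card A ≤ r ^ 2 ∧ (r ^ 2 ≤ Nat.card A → r = 3 ∧ Nat.card A = 9) := by
  obtain ⟨n, hn⟩ := IsPGroup.iff_card.1 hA
  have hd : r ^ n ∣ 3 ^ 2 * 560 := by
    rw [show 3 ^ 2 * 560 = Nat.card K * 2 by rw [card_K e]; rfl, ← hn]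
    exact (Subgroup.card_subgroup_dvd_card A).trans (dvd_mul_right _ _)
  have hle : n ≤ 2 ∧ (2 ≤ n → r = 3) := by
    by_cases hn2 : n < 2
    · exact ⟨by omega, fun h => absurd h (by omega)⟩
    have h2 : r ^ 2 ∣ 5040 := (pow_dvd_pow r (by omega : 2 ≤ n)).trans hd
    have hr3 : r = 3 := by
      have hle : r ≤ 70 := by
        by_contra h
        have := Nat.le_of_dvd (by norm_num) h2
        nlinarith
      have key : ∀ q < 71, q ^ 2 ∣ 5040 → q.Prime → q = 2 ∨ q = 3 := by decide +kernel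
      exact (key r (by omega) h2 hr.out).resolve_left hr2
    refine ⟨?_, fun _ => hr3⟩
    by_contra h3
    subst hr3
    exact absurd ((pow_dvd_pow 3 (by omega : 3 ≤ n)).trans hd) (by norm_num)
  refine ⟨by rw [hn]; exact Nat.pow_le_pow_right hr.out.pos hle.1, fun h => ?_⟩
  have hn2 : 2 ≤ n := by
    rw [hn] at h
    exact (Nat.pow_le_pow_iff_right hr.out.one_lt).1 h
  obtain rfl := hle.2 hn2
  refine ⟨rfl, ?_⟩
  rw [hn, le_antisymm hle.1 hn2]
  norm_num

include e in
theorem seven_facts {r : ℕ} [hr : Fact r.Prime] (hr2 : r ≠ 2) : Facts K r := by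
  haveI : IsSimpleGroup (alternatingGroup (Fin 7)) := alternatingGroup.isSimpleGroup (by simp)
  haveI : IsSimpleGroup K :=
    haveI : Nontrivial K := e.toEquiv.nontrivial
    IsSimpleGroup.isSimpleGroup_of_surjective e.symm.toMonoidHom e.symm.surjective
  have htop : ∀ N : Subgroup K, InnerN N → N = ⊤ := fun N hN =>
    hN.normal.eq_bot_or_eq_top.resolve_left hN.ne
  have habel : ∀ {A : Subgroup K}, IsPGroup r A → ∀ a ∈ A, ∀ b ∈ A, Commute a b := fun hA _ ha _ hb =>
    commute_of_card_le_sq hA (pGroup_small e hr2 hA).1 ha hb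
  have hnine : ∀ {A : Subgroup K}, EAb r A → r ^ 2 ≤ Nat.card A → r = 3 ∧
      ∃ c : Perm (Fin 7), ∀ x, toPerm e x ∈ A.map (toPerm e) ↔ c * toPerm e x * c⁻¹ ∈ Perms.P0 := by
    intro A hA hbig
    obtain ⟨h3, h9⟩ := (pGroup_small e hr2 hA.isPGroup).2 hbig
    obtain ⟨c, hc⟩ := Perms.exists_conj (A := A.map (toPerm e))
      (by rw [card_map_of_injective (toPerm_injective e), h9])
    exact ⟨h3, c, fun x => hc _⟩
  have hmem : ∀ {A : Subgroup K} {x : K}, toPerm e x ∈ A.map (toPerm e) → x ∈ A := by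
    rintro A x ⟨y, hy, h⟩
    rwa [← toPerm_injective e h]
  have hpre : ∀ {A : Subgroup K} {c : Perm (Fin 7)},
      (∀ x, toPerm e x ∈ A.map (toPerm e) ↔ c * toPerm e x * c⁻¹ ∈ Perms.P0) →
      ∀ p ∈ Perms.P0, Perm.sign p = 1 → ∃ a ∈ A, c * toPerm e a * c⁻¹ = p := by
    intro A c hc p hp hs
    obtain ⟨a, ha⟩ := exists_of_even e (x := c⁻¹ * p * c) (by
      rw [map_mul, map_mul, map_inv, mul_right_comm, inv_mul_cancel, one_mul, hs])
    have hcp : c * toPerm e a * c⁻¹ = p := by rw [ha]; group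
    exact ⟨a, hmem ((hc a).2 (hcp ▸ hp)), hcp⟩
  have hs1 : Perm.sign Perms.c1 = 1 ∧ Perm.sign Perms.c2 = 1 := by decide
  constructor
  case four =>
    intro N hN
    obtain ⟨v, w, h⟩ := even_four e
    exact Or.inl ⟨v, htop N hN ▸ mem_top v, w, htop N hN ▸ mem_top w, h⟩
  case quot =>
    intro N A hN _
    rw [htop N hN, inf_top_eq]
    exact Nat.le_mul_of_pos_left _ hr.out.pos
  case comm =>
    intro N A hN _ _ β a _
    exact htop N hN ▸ mem_top _
  case abel => exact fun N A _ _ hA => habel hA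
  case expAbel =>
    intro E hE β _ _
    exact habel fun x => ⟨1, Subtype.ext (by rw [pow_one, coe_pow, coe_one]; exact hE x x.2)⟩
  case free =>
    intro N A _ hA _ hbig β hβ hβA a ha hfix
    obtain ⟨-, c, hc⟩ := hnine hA hbig
    obtain ⟨s, hs⟩ := exists_sigma e β
    obtain ⟨hsq, hcard⟩ := tame_sigma e hβ hs
    set x := c * s * c⁻¹ with hx
    have hconj : ∀ y : K, x * (c * toPerm e y * c⁻¹) * x = c * toPerm e (β y) * c⁻¹ := fun y => by
      rw [hs y, inv_eq_of_mul_eq_one_right hsq, hx]; group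
    have hnorm : ∀ p ∈ Perms.P0, Perm.sign p = 1 → x * p * x ∈ Perms.P0 := fun p hp hp1 => by
      obtain ⟨b, hb, rfl⟩ := hpre hc p hp hp1
      rw [hconj]
      exact (hc _).1 (mem_map_of_mem _ (hβA b hb))
    have h1 := Perms.eq_one_of_normalizing (x := x) (a := c * toPerm e a * c⁻¹)
      (by rw [hx]; calc c * s * c⁻¹ * (c * s * c⁻¹) = c * (s * s) * c⁻¹ := by group
            _ = 1 := by rw [hsq, mul_one, mul_inv_cancel])
      (by rw [hx, Perm.support_conj, Finset.card_map, hcard])
      (hnorm _ Perms.c1_mem hs1.1) (hnorm _ Perms.c2_mem hs1.2) ((hc a).1 (mem_map_of_mem _ ha)) (by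
        have hsa : Commute (toPerm e a) s := by
          have h := hs a
          rw [hfix] at h
          exact (eq_mul_inv_iff_mul_eq.1 h)
        rw [hx]
        exact hsa.map (MulAut.conj c).toMonoidHom)
    refine toPerm_injective e ?_
    rw [map_one]
    exact conj_eq_one_iff.1 h1
  case outer =>
    intro N A hN _ _ a _ haN
    exact absurd (htop N hN ▸ mem_top a) haN
  case bigInner =>
    intro N A hN _ _ R _ _
    exact htop N hN ▸ le_top
  case bigSelf =>
    intro N A _ hA _ hbig P _ _ _ _ _ x hx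
    obtain ⟨-, c, hc⟩ := hnine hA hbig
    have hcomm : ∀ p ∈ Perms.P0, Perm.sign p = 1 → Commute p (c * toPerm e x * c⁻¹) := by
      intro p hp hp1
      obtain ⟨b, hb, rfl⟩ := hpre hc p hp hp1
      exact ((hx b hb).symm.map (toPerm e)).map (MulAut.conj c).toMonoidHom
    exact hmem ((hc x).2 (Perms.centralizer_P0 (hcomm _ Perms.c1_mem hs1.1) (hcomm _ Perms.c2_mem hs1.2)))
  case cent =>
    intro N A _ hA _ hbig a ha ha1 x _ hxo hxa
    obtain ⟨h3, c, hc⟩ := hnine hA hbig
    have h12 := Perms.pow_twelve_of_commute (a := c * toPerm e a * c⁻¹) (x := c * toPerm e x * c⁻¹)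
      ((hc a).1 (mem_map_of_mem _ ha))
      (fun h => ha1 (toPerm_injective e ((conj_eq_one_iff.1 h).trans (map_one _).symm)))
      ((hxa.symm.map (toPerm e)).map (MulAut.conj c).toMonoidHom)
    rw [conj_pow, conj_eq_one_iff, ← map_pow, ← map_one (toPerm e)] at h12
    have hd : orderOf x ∣ 4 * 3 := orderOf_dvd_of_pow_eq_one (toPerm_injective e h12)
    refine ⟨1, orderOf_dvd_iff_pow_eq_one.1 ?_⟩
    rw [h3, pow_one]
    exact ((Nat.coprime_two_right.2 hxo).pow_right 2).dvd_of_dvd_mul_left (by simpa using hd)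

end Facts

end CfsgLib.GW.KFactsProof
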