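import Cfsg.Agent.Lib.GW.KFactsProof.Linear
import Cfsg.Agent.Lib.GW.Dne.Setup
import Cfsg.Agent.Lib.Core.SolvableStruct
import Cfsg.Agent.Lib.TwoGroups.DihedralModel
import Cfsg.Agent.Lib.GW.KFactsProof.Seven

/-!
# The shapes of a proper subgroup modulo its core

`shape`: for a proper subgroup `H` of a minimal counterexample, `H / O(H)` is a `2`-group, lies
between a four-group and its automorphism group, lies between `PSL(2, q)`, `q > 3` odd, and its
automorphism group, or is `A₇`.

`ambient` records the properties of `H / O(H)` inherited from the Sylow `2`-subgroup of `G`.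
-/

set_option autoImplicit false

namespace CfsgLib.GW.KFactsProof

open Subgroup DihedralGroup CfsgLib.GW CfsgLib.Known.AutPSL

/-- Trivial core, and `2`-subgroups embed in the dihedral group of order `2 ^ (n + 1)`. -/
structure Ambient (n : ℕ) (K : Type*) [Group K] : Prop where
  pos : 1 ≤ n
  core : Cfsg.oddCore K = ⊥
  emb : ∀ Q : Subgroup K, IsPGroup 2 Q → ∃ φ : Q →* DihedralGroup (2 ^ n), Function.Injective φ

/-- A self-centralising normal four-group with a non-trivial quotient acting on it. -/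
structure Klein (K : Type*) [Group K] : Prop where
  exists_four : ∃ V : Subgroup K, V.Normal ∧ Nat.card V = 4 ∧ (∀ x ∈ V, x * x = 1) ∧
    centralizer (V : Set K) = V
  three_dvd : 3 ∣ Nat.card K
  dvd : Nat.card K ∣ 24

/-- The four shapes. -/
inductive Shape (K : Type*) [Group K] : Prop
  | twoGroup (h : IsPGroup 2 K)
  | klein (h : Klein K)
  | linear (F : Type) [Field F] [Fintype F] (L : Subgroup K) [L.Normal] (e : L ≃* PSL 2 F)
      (h : IsLin L e)
  | seven (h : Nonempty (K ≃* alternatingGroup (Fin 7)))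

/-- A non-cyclic subgroup of a dihedral `2`-group is dihedral. -/
theorem exists_dihedral_of_not_cyclic {n : ℕ} (hn : 1 ≤ n) (Q : Subgroup (DihedralGroup (2 ^ n)))
    (hQ : ¬ IsCyclic Q) : ∃ j, 1 ≤ j ∧ Nonempty (Q ≃* DihedralGroup (2 ^ j)) := by
  haveI : NeZero (2 ^ n) := ⟨pow_ne_zero _ two_ne_zero⟩
  obtain ⟨i, hi⟩ : ∃ i, sr i ∈ Q := by
    by_contra hno
    push Not at hno
    refine hQ (isCyclic_of_le (H' := zpowers (r (1 : ZMod (2 ^ n)))) ?_)
    rintro (a | a) ha
    · exact mem_zpowers_iff.2 ⟨(a.val : ℤ), by rw [zpow_natCast, r_one_pow, ZMod.natCast_zmod_val]⟩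
    · exact absurd ha (hno a)
  have hsr : sr i ≠ (1 : DihedralGroup (2 ^ n)) := fun h => by rw [one_def] at h; cases h
  obtain ⟨k, hk, hkc⟩ := (Nat.dvd_prime_pow Nat.prime_two).1 (show Nat.card Q ∣ 2 ^ (n + 1) by
    rw [pow_succ']; exact DihedralGroup.nat_card (n := 2 ^ n) ▸ card_subgroup_dvd_card Q)
  rcases k with _ | _ | j
  · refine absurd ?_ hQ
    haveI : Subsingleton Q := (Nat.card_eq_one_iff_unique.1 (by simpa using hkc)).1
    infer_instance
  · haveI : Fact (Nat.Prime 2) := ⟨Nat.prime_two⟩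
    exact absurd (isCyclic_of_prime_card (p := 2) (by simpa using hkc)) hQ
  obtain ⟨x, hx, hx1, hxi⟩ : ∃ x ∈ Q, x ≠ 1 ∧ x ≠ sr i := by
    by_contra hno
    push Not at hno
    refine hQ (isCyclic_of_le (H' := zpowers (sr i)) fun x hx => ?_)
    by_cases h : x = 1
    · rw [h]; exact one_mem _
    · rw [hno x hx h]; exact mem_zpowers _
  obtain ⟨b, hb, hb2, hb1, hbi⟩ : ∃ b ∈ Q, b * b = 1 ∧ b ≠ 1 ∧ sr i ≠ b := by
    rcases x with t | t
    · refine ⟨sr i * r t, mul_mem hi hx, by rw [sr_mul_r, sr_mul_self], fun h => ?_,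
        fun h => hx1 (left_eq_mul.1 h)⟩
      rw [sr_mul_r, one_def] at h
      cases h
    · exact ⟨sr t, hx, sr_mul_self t, hx1, hxi.symm⟩
  obtain ⟨i', hQi⟩ := CfsgLib.TwoGroups.Dihedral.exists_eq_lev hn (j := j + 1) (by omega) hkc hi hb
    (sr_mul_self i) hb2 hsr hb1 hbi
  refine ⟨j + 1, by omega, ?_⟩
  let c : ZMod (2 ^ (j + 1)) →+ ZMod (2 ^ n) :=
    ZMod.lift (2 ^ (j + 1)) ⟨(Int.castAddHom _).comp (AddMonoidHom.mulLeft (2 ^ (n - (j + 1)) : ℤ)), by
      show (((2 : ℤ) ^ (n - (j + 1)) * ((2 ^ (j + 1) : ℕ) : ℤ) : ℤ) : ZMod (2 ^ n)) = 0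
      push_cast
      rw [← pow_add, show n - (j + 1) + (j + 1) = n by omega]
      exact_mod_cast ZMod.natCast_self (2 ^ n)⟩
  have hc : Function.Injective c := by
    refine (ZMod.lift_injective _).2 fun m hm => ?_
    have hm' : (((2 : ℤ) ^ (n - (j + 1)) * m : ℤ) : ZMod (2 ^ n)) = 0 := hm
    rw [ZMod.intCast_zmod_eq_zero_iff_dvd] at hm'
    rw [ZMod.intCast_zmod_eq_zero_iff_dvd]
    push_cast at hm' ⊢
    rw [show (2 : ℤ) ^ n = 2 ^ (n - (j + 1)) * 2 ^ (j + 1) by
      rw [← pow_add]; congr 1; omega] at hm'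
    exact (mul_dvd_mul_iff_left (pow_ne_zero _ (by norm_num))).1 hm'
  let g : DihedralGroup (2 ^ (j + 1)) →* DihedralGroup (2 ^ n) :=
    { toFun := fun x => match x with
        | .r t => r (c t)
        | .sr t => sr (i' + c t)
      map_one' := by show r (c 0) = 1; rw [map_zero]; rfl
      map_mul' := by
        rintro (a | a) (b | b)
        · show r (c (a + b)) = r (c a) * r (c b); rw [map_add, r_mul_r]
        · show sr (i' + c (b - a)) = r (c a) * sr (i' + c b)
          rw [map_sub, r_mul_sr, add_sub_assoc]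
        · show sr (i' + c (a + b)) = sr (i' + c a) * r (c b)
          rw [map_add, sr_mul_r, add_assoc]
        · show r (c (b - a)) = sr (i' + c a) * sr (i' + c b)
          rw [map_sub, sr_mul_sr, add_sub_add_left_eq_sub] }
  have hg : Function.Injective g := by
    rintro (a | a) (b | b) h
    · exact congrArg r (hc (r.inj h))
    · cases h
    · cases h
    · exact congrArg sr (hc (add_left_cancel (sr.inj h)))
  have h2 : ∀ t, (2 : ZMod (2 ^ n)) ^ (j + 1) * c t = 0 := fun t => by
    have h0 : c ((2 ^ (j + 1) : ℕ) • t) = (2 ^ (j + 1) : ℕ) • c t := map_nsmul c _ t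
    rw [show (2 ^ (j + 1) : ℕ) • t = 0 by rw [nsmul_eq_mul, ZMod.natCast_self, zero_mul], map_zero,
      nsmul_eq_mul] at h0
    push_cast at h0
    exact h0.symm
  have hrange : g.range = Q := by
    rw [hQi]
    refine eq_of_le_of_card_ge ?_ ?_
    · rintro _ ⟨(a | a), rfl⟩
      · exact CfsgLib.TwoGroups.Dihedral.r_mem_lev.2 (h2 a)
      · refine CfsgLib.TwoGroups.Dihedral.sr_mem_lev.2 ?_
        rw [add_sub_cancel_left]
        exact h2 a
    · rw [CfsgLib.TwoGroups.Dihedral.natCard_lev (by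
        by_contra hlt
        have := Nat.pow_lt_pow_right one_lt_two (show n + 1 < j + 2 by omega)
        rw [hkc] at *
        omega) i', ← Nat.card_congr (MonoidHom.ofInjective hg).toEquiv, DihedralGroup.nat_card,
        pow_succ' 2 (j + 1)]
  exact ⟨((MonoidHom.ofInjective hg).trans (MulEquiv.subgroupCongr hrange)).symm⟩

variable {n : ℕ} {K : Type*} [Group K] [Finite K]

omit [Finite K] in
theorem isPGroup_closure_involutions {a b c : K} (ha : a * a = 1) (hb : b * b = 1) (hc : c * c = 1)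
    (h1 : Commute a b) (h2 : Commute a c) (h3 : Commute b c) :
    IsPGroup 2 (closure ({a, b, c} : Set K)) := by
  letI : CommGroup (closure ({a, b, c} : Set K)) := Subgroup.closureCommGroupOfComm (by
    intro x hx y hy
    rcases hx with rfl | rfl | rfl <;> rcases hy with rfl | rfl | rfl <;>
      first | rfl | exact h1.eq | exact h1.eq.symm | exact h2.eq | exact h2.eq.symm |
        exact h3.eq | exact h3.eq.symm)
  intro x
  refine ⟨1, Subtype.ext ?_⟩
  rw [pow_one, coe_pow, coe_one]
  obtain ⟨x, hx⟩ := x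
  show x ^ 2 = 1
  induction hx using closure_induction with
  | mem y hy => rcases hy with rfl | rfl | rfl <;> (rw [pow_two]; assumption)
  | one => exact one_pow 2
  | mul y z hy hz ihy ihz =>
    have hyz : Commute y z := congrArg Subtype.val
      (mul_comm (⟨y, hy⟩ : closure ({a, b, c} : Set K)) ⟨z, hz⟩)
    rw [hyz.mul_pow, ihy, ihz, one_mul]
  | inv y _ ih => rw [inv_pow, ih, inv_one]

namespace Ambient

variable (A : Ambient n K)
include A

omit [Finite K] in
/-- Pairwise commuting involutions span at most a four-group. -/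
theorem three {a b c : K} (h : Four a b) (hc : c * c = 1) (h2 : Commute a c) (h3 : Commute b c) :
    c = 1 ∨ c = a ∨ c = b ∨ c = a * b := by
  have ha := CfsgLib.Signalizer.involution_sq h.hv
  have hb := CfsgLib.Signalizer.involution_sq h.hw
  obtain ⟨φ, hφ⟩ := A.emb _ (isPGroup_closure_involutions ha hb hc h.comm h2 h3)
  set a' : closure ({a, b, c} : Set K) := ⟨a, subset_closure (by simp)⟩
  set b' : closure ({a, b, c} : Set K) := ⟨b, subset_closure (by simp)⟩
  set c' : closure ({a, b, c} : Set K) := ⟨c, subset_closure (by simp)⟩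
  have sq : ∀ x : closure ({a, b, c} : Set K), (x : K) * x = 1 → φ x * φ x = 1 := fun x hx => by
    rw [← map_mul, show x * x = 1 from Subtype.ext hx, map_one]
  have cm : ∀ x y : closure ({a, b, c} : Set K), Commute (x : K) y → φ x * φ y = φ y * φ x :=
    fun x y hxy => by rw [← map_mul, ← map_mul, show x * y = y * x from Subtype.ext hxy.eq]
  have ne : ∀ x y : closure ({a, b, c} : Set K), (x : K) ≠ y → φ x ≠ φ y := fun x y hxy e =>
    hxy (congrArg Subtype.val (hφ e))
  have a1 : φ a' ≠ 1 := fun e => CfsgLib.Signalizer.involution_ne_one h.hv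
    (congrArg Subtype.val (hφ (e.trans (map_one φ).symm)))
  have b1 : φ b' ≠ 1 := fun e => CfsgLib.Signalizer.involution_ne_one h.hw
    (congrArg Subtype.val (hφ (e.trans (map_one φ).symm)))
  rcases model_three A.pos (sq a' ha) (sq b' hb) (sq c' hc) a1 b1 (ne a' b' h.ne) (cm a' b' h.comm)
    (cm a' c' h2) (cm b' c' h3) with e | e | e | e
  · exact Or.inl (congrArg Subtype.val (hφ (e.trans (map_one φ).symm)))
  · exact Or.inr (Or.inl (congrArg Subtype.val (hφ e)))
  · exact Or.inr (Or.inr (Or.inl (congrArg Subtype.val (hφ e))))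
  · rw [← map_mul] at e
    exact Or.inr (Or.inr (Or.inr (congrArg Subtype.val (hφ e))))

omit [Finite K] in
/-- An element of odd order normalising a `2`-subgroup centralises it, unless it is elementary. -/
theorem centralizes_or_elementary {Q : Subgroup K} (hQ : IsPGroup 2 Q) {k : K}
    (hk : k ∈ normalizer (Q : Set K)) (ho : Odd (orderOf k)) :
    k ∈ centralizer (Q : Set K) ∨ ∀ x ∈ Q, x * x = 1 := by
  obtain ⟨φ, hφ⟩ := A.emb Q hQ
  let e : Q ≃* φ.range := MonoidHom.ofInjective hφ
  let α : MulAut Q := normalizerMonoidHom Q ⟨k, hk⟩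
  have hα : α ^ orderOf k = 1 := by
    rw [← map_pow, show (⟨k, hk⟩ : normalizer (Q : Set K)) ^ orderOf k = 1 from
      Subtype.ext (pow_orderOf_eq_one _), map_one]
  rcases model_aut A.pos φ.range (MulAut.congr e α) ho (by rw [← map_pow, hα, map_one]) with h | h
  · refine Or.inl (mem_centralizer_iff.2 fun q hq => ?_)
    rw [MulEquiv.map_eq_one_iff] at h
    have h3 : k * q * k⁻¹ = q := congrArg (fun ψ : MulAut Q => ((ψ ⟨q, hq⟩ : Q) : K)) h
    nth_rewrite 1 [← h3]
    group
  · refine Or.inr fun x hx => ?_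
    have h2 : e (⟨x, hx⟩ * ⟨x, hx⟩) = 1 := by rw [map_mul]; exact Subtype.ext (h _ (e ⟨x, hx⟩).2)
    exact congrArg Subtype.val (e.injective (h2.trans (map_one e).symm))

/-- Solvable shapes. -/
theorem solvable_shape [Group.IsSolvable K] : IsPGroup 2 K ∨ Klein K := by
  classical
  haveI : Fact (Nat.Prime 2) := ⟨Nat.prime_two⟩
  set Q : Subgroup K := Cfsg.pCore 2 K
  have hQ : IsPGroup 2 Q := CfsgLib.Core.isPGroup_pCore 2 K
  have hC : centralizer (Q : Set K) ≤ Q :=
    CfsgLib.Core.centralizer_pCore_le_of_pPrimeCore_eq_bot A.core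
  have hodd : ∀ k : K, Odd (orderOf k) → k ∈ centralizer (Q : Set K) → k = 1 := by
    intro k ho hk
    obtain ⟨a, ha⟩ := (Nat.dvd_prime_pow Nat.prime_two).1 (orderOf_dvd_of_pow_eq_one
      (show k ^ 2 ^ (hQ ⟨k, hC hk⟩).choose = 1 from congrArg Subtype.val (hQ ⟨k, hC hk⟩).choose_spec))
    rcases Nat.eq_zero_or_pos a with h0 | h0
    · rwa [h0, pow_zero, and_iff_right (Nat.zero_le _), orderOf_eq_one_iff] at ha
    · rw [ha.2] at ho
      exact absurd ho (Nat.not_odd_iff_even.2 (Nat.even_pow.2 ⟨even_two, h0.ne'⟩))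
  by_cases hall : ∀ k : K, Odd (orderOf k) → k = 1
  · refine Or.inl fun k => ?_
    obtain ⟨a, m, hm, hkm⟩ := Nat.exists_eq_two_pow_mul_odd (orderOf_pos k).ne'
    refine ⟨a, hall _ ?_⟩
    rw [orderOf_pow_of_dvd (pow_ne_zero _ two_ne_zero) ⟨m, hkm⟩, hkm, Nat.mul_div_cancel_left _ (by positivity)]
    exact hm
  right
  push Not at hall
  obtain ⟨k, hk, hk1⟩ := hall
  have hkN : k ∈ normalizer (Q : Set K) := by
    rw [normalizer_eq_top Q]; exact mem_top k
  have hkC : k ∉ centralizer (Q : Set K) := fun h => hk1 (hodd k hk h)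
  have hexp := (A.centralizes_or_elementary hQ hkN hk).resolve_left hkC
  have hcm : ∀ a ∈ Q, ∀ b ∈ Q, Commute a b := fun a ha b hb => by
    have h2 := hexp _ (mul_mem ha hb)
    calc a * b = (a * b)⁻¹ := (inv_eq_of_mul_eq_one_right h2).symm
      _ = b * a := by rw [mul_inv_rev, inv_eq_of_mul_eq_one_right (hexp a ha),
        inv_eq_of_mul_eq_one_right (hexp b hb)]
  obtain ⟨v, hv, hvk⟩ : ∃ v ∈ Q, k * v * k⁻¹ ≠ v := by
    by_contra hno
    push Not at hno
    exact hkC (mem_centralizer_iff.2 fun v hv => by nth_rewrite 1 [← hno v hv]; group)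
  set w : K := k * v * k⁻¹ with hw
  have hwQ : w ∈ Q := (mem_normalizer_iff.1 hkN v).1 hv
  have hv1 : v ≠ 1 := fun e => hvk (by simp [hw, e])
  have hw1 : w ≠ 1 := fun e => hv1 (conj_eq_one_iff.1 e)
  have hF : Four v w := ⟨CfsgLib.Signalizer.orderOf_eq_two_of hv1 (hexp v hv),
    CfsgLib.Signalizer.orderOf_eq_two_of hw1 (hexp w hwQ), hvk.symm, hcm v hv w hwQ⟩
  have hset : (Q : Set K) = {1, v, w, v * w} := by
    refine Set.Subset.antisymm (fun x hx => ?_) ?_
    · rcases A.three hF (hexp x hx) (hcm v hv x hx) (hcm w hwQ x hx) with e | e | e | e <;> simp [e]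
    · rintro x (rfl | rfl | rfl | rfl)
      · exact one_mem Q
      · exact hv
      · exact hwQ
      · exact mul_mem hv hwQ
  have hcard : Nat.card Q = 4 := by
    have h1 : v * w ≠ 1 := fun e => hF.ne ((eq_inv_of_mul_eq_one_left e).trans
      (inv_eq_of_mul_eq_one_right (hexp w hwQ)))
    have h2 : v ≠ v * w := fun e => hw1 (left_eq_mul.1 e)
    have h3 : w ≠ v * w := fun e => hv1 (right_eq_mul.1 e)
    rw [← SetLike.coe_sort_coe, Nat.card_coe_set_eq, hset,
      Set.ncard_insert_of_notMem (by simp [Ne.symm hv1, Ne.symm hw1, Ne.symm h1]) (Set.toFinite _),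
      Set.ncard_insert_of_notMem (by simp [hF.ne, h2]) (Set.toFinite _),
      Set.ncard_pair h3]
  have hdvd : Nat.card K ∣ 24 := by
    let ρ : K →* Equiv.Perm {x : Q // x ≠ 1} :=
      { toFun := fun k => Equiv.Perm.subtypePerm (MulAut.conjNormal k : MulAut Q).toEquiv fun x => by
          show (MulAut.conjNormal k : MulAut Q) x ≠ 1 ↔ x ≠ 1
          rw [map_ne_one_iff _ (MulEquiv.injective _)]
        map_one' := Equiv.ext fun x => Subtype.ext (by simp)
        map_mul' := fun a b => Equiv.ext fun x => Subtype.ext (by simp) }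
    have hker : ρ.ker ≤ Q := fun g hg => hC (mem_centralizer_iff.2 fun x hx => by
      by_cases h1 : x = 1
      · subst h1; rw [one_mul, mul_one]
      have h := congrArg (fun f : Equiv.Perm {x : Q // x ≠ 1} =>
        (((f ⟨⟨x, hx⟩, fun e => h1 (congrArg Subtype.val e)⟩ : {x : Q // x ≠ 1}) : Q) : K))
        (MonoidHom.mem_ker.1 hg)
      have h' : g * x * g⁻¹ = x := h
      exact (mul_inv_eq_iff_eq_mul.1 h').symm)
    have h6 : Nat.card (Equiv.Perm {x : Q // x ≠ 1}) = 6 := by
      haveI := Fintype.ofFinite Q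
      rw [Nat.card_perm, Nat.card_eq_fintype_card, Fintype.card_subtype_compl,
        Fintype.card_subtype_eq, ← Nat.card_eq_fintype_card, hcard]
      rfl
    rw [← ρ.ker.card_mul_index, index_ker ρ, show (24 : ℕ) = 4 * 6 from rfl]
    exact Nat.mul_dvd_mul (hcard ▸ card_dvd_of_le hker) (h6 ▸ card_subgroup_dvd_card _)
  refine ⟨⟨Q, inferInstance, hcard, hexp, le_antisymm hC ?_⟩, ?_, hdvd⟩
  · exact fun x hx => mem_centralizer_iff.2 fun y hy => (hcm y hy x hx).eq
  · have hd : orderOf k ∣ 24 := (orderOf_dvd_natCard k).trans hdvd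
    have key : ∀ d < 25, d ∣ 24 → d % 2 = 1 → d = 1 ∨ d = 3 := by decide
    rcases key _ (Nat.lt_succ_of_le (Nat.le_of_dvd (by norm_num) hd)) hd (Nat.odd_iff.1 hk) with e | e
    · exact absurd (orderOf_eq_one_iff.1 e) hk1
    · exact e ▸ orderOf_dvd_natCard k

/-- An involution has no field component. -/
theorem fld_eq_one_of_sq {F : Type*} [Field F] [Fintype F] {L : Subgroup K} [L.Normal]
    {e : L ≃* PSL 2 F} (hK : IsLin L e) {k : K} (hk : k * k = 1) : fld (toAut L e k) = 1 := by
  by_contra hf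
  obtain ⟨v, w, hvw, hfv, hfw⟩ := exists_four_of_fld (two_ne_zero_of_odd' hK.odd) Nat.prime_two
    (show toAut L e k ^ 2 = 1 by rw [pow_two, ← map_mul, hk, map_one]) hf
  obtain ⟨v', rfl⟩ := e.surjective v
  obtain ⟨w', rfl⟩ := e.surjective w
  rw [toAut_apply, e.injective.eq_iff, Subtype.ext_iff] at hfv hfw
  rcases A.three ((hvw.of_map e.toMonoidHom e.injective).map L.subtype L.subtype_injective) hk
    (mul_inv_eq_iff_eq_mul.1 hfv).symm (mul_inv_eq_iff_eq_mul.1 hfw).symm with h | h | h | h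
  · exact hf (by rw [h, map_one, map_one])
  all_goals
    refine hf ?_
    first
      | (rw [h]; exact (congrArg fld (toAut_of_mem L e v')).trans (fld_conj _))
      | (rw [h]; exact (congrArg fld (toAut_of_mem L e w')).trans (fld_conj _))
      | (rw [h]; exact (congrArg fld (toAut_of_mem L e (v' * w'))).trans (fld_conj _))

/-- A normal simple perfect subgroup with a four-group has trivial centraliser. -/
theorem centralizer_eq_bot (L : Subgroup K) [L.Normal] [IsSimpleGroup L] [Group.IsPerfect L]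
    {v w : L} (h : Four v w) : centralizer (L : Set K) = ⊥ := by
  haveI : Fact (Nat.Prime 2) := ⟨Nat.prime_two⟩
  have hZ : center L = ⊥ := by
    refine (Normal.eq_bot_or_eq_top inferInstance).resolve_right fun ht => ?_
    exact Group.IsPerfect.not_isMulCommutative L ⟨⟨fun a b =>
      (mem_center_iff.1 (ht ▸ mem_top b) a)⟩⟩
  rcases Nat.even_or_odd (Nat.card (centralizer (L : Set K))) with he | ho
  · exfalso
    obtain ⟨c, hc⟩ := exists_prime_orderOf_dvd_card' 2 (even_iff_two_dvd.1 he)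
    rw [← Subgroup.orderOf_coe] at hc
    have hcc : ∀ l : L, Commute (l : K) (c : K) := fun l => mem_centralizer_iff.1 c.2 l l.2
    have hcL : (c : K) ∈ L := by
      rcases A.three (h.map L.subtype L.subtype_injective) (CfsgLib.Signalizer.involution_sq hc) (hcc v)
        (hcc w) with e | e | e | e
      · exact absurd e (CfsgLib.Signalizer.involution_ne_one hc)
      all_goals rw [e]
      · exact v.2
      · exact w.2
      · exact mul_mem v.2 w.2
    have : (⟨c, hcL⟩ : L) ∈ center L := mem_center_iff.2 fun l => Subtype.ext (hcc l).eq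
    rw [hZ, mem_bot] at this
    exact CfsgLib.Signalizer.involution_ne_one hc (congrArg Subtype.val this)
  · haveI : (centralizer (L : Set K)).Normal := Subgroup.normal_centralizer
    exact le_bot_iff.1 (A.core ▸ CfsgLib.Core.le_pPrimeCore (Nat.coprime_two_right.2 ho))

/-- Nothing normalises `A₇` from outside. -/
theorem seven_top (L : Subgroup K) [L.Normal] (e : L ≃* alternatingGroup (Fin 7))
    (hC : centralizer (L : Set K) = ⊥) : L = ⊤ := by
  by_contra hne
  obtain ⟨k, hk⟩ : ∃ k, k ∉ L := by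
    by_contra hno
    push Not at hno
    exact hne (eq_top_iff.2 fun x _ => hno x)
  have heq : ∀ a b : K, (∀ l : L, a * l * a⁻¹ = b * l * b⁻¹) → a = b := fun a b h => by
    refine (inv_mul_eq_one.1 (mem_bot.1 (hC ▸ mem_centralizer_iff.2 fun l hl => ?_) : b⁻¹ * a = 1)).symm
    have h' : a * l * a⁻¹ = b * l * b⁻¹ := h ⟨l, hl⟩
    calc l * (b⁻¹ * a) = b⁻¹ * (b * l * b⁻¹) * a := by group
      _ = b⁻¹ * a * l := by rw [← h']; group
  obtain ⟨s, hs⟩ := exists_sigma e (MulAut.conjNormal k)
  have hsodd : Equiv.Perm.sign s ≠ 1 := fun h1 => by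
    obtain ⟨l, rfl⟩ := exists_of_even e h1
    refine hk (heq k (l : K) (fun x => ?_) ▸ l.2)
    have h := hs x
    rw [← map_inv, ← map_mul, ← map_mul] at h
    have h' := congrArg Subtype.val (toPerm_injective e h)
    rwa [MulAut.conjNormal_apply] at h'
  obtain ⟨v, w, sv, sw, hv, hw, hvw, hc, cv, cw⟩ := Perms.exists_four_of_odd
    (x := Equiv.swap (0 : Fin 7) 1) (Equiv.swap_mul_self 0 1)
    (by rw [Equiv.Perm.sign_swap (by decide)]; decide)
  obtain ⟨v', rfl⟩ := exists_of_even e sv
  obtain ⟨w', rfl⟩ := exists_of_even e sw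
  obtain ⟨l, hl⟩ := exists_of_even e (x := s⁻¹ * Equiv.swap (0 : Fin 7) 1) (by
    rw [map_mul, map_inv, Equiv.Perm.sign_swap (by decide)]
    rcases Int.units_eq_one_or (Equiv.Perm.sign s) with h | h
    · exact absurd h hsodd
    · rw [h]; rfl)
  have hact : ∀ x y : L, (y : K) = k * l * x * (k * l)⁻¹ → toPerm e y =
      Equiv.swap (0 : Fin 7) 1 * toPerm e x * (Equiv.swap (0 : Fin 7) 1)⁻¹ := by
    intro x y hy
    have hyk : y = MulAut.conjNormal k (l * x * l⁻¹) := Subtype.ext (by
      rw [hy, MulAut.conjNormal_apply, coe_mul, coe_mul, coe_inv]; group)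
    rw [hyk, hs, map_mul (toPerm e), map_mul (toPerm e), map_inv (toPerm e), hl]
    group
  set t : K := k * l with ht
  have hmem : ∀ x : L, t * x * t⁻¹ ∈ L := fun x => Subgroup.Normal.conj_mem inferInstance _ x.2 t
  have ht2 : t * t = 1 := heq _ _ fun x => by
    have h := hact ⟨_, hmem x⟩ ⟨_, hmem ⟨_, hmem x⟩⟩ rfl
    rw [hact x ⟨_, hmem x⟩ rfl, Equiv.swap_inv] at h
    replace h : toPerm e ⟨_, hmem ⟨_, hmem x⟩⟩ = toPerm e x := h.trans (by
      rw [← mul_assoc (Equiv.swap (0 : Fin 7) 1), ← mul_assoc (Equiv.swap (0 : Fin 7) 1),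
        Equiv.swap_mul_self, one_mul, mul_assoc, Equiv.swap_mul_self, mul_one])
    have h' : t * (t * x * t⁻¹) * t⁻¹ = x := congrArg Subtype.val (toPerm_injective e h)
    rw [mul_inv_rev, one_mul, inv_one, mul_one]
    exact Eq.trans (by group) h'
  have hfix : ∀ x : L, Commute (Equiv.swap (0 : Fin 7) 1) (toPerm e x) → Commute (x : K) t := by
    intro x hx
    have h := hact x ⟨_, hmem x⟩ rfl
    rw [hx.eq, mul_inv_cancel_right] at h
    have h' : t * x * t⁻¹ = x := congrArg Subtype.val (toPerm_injective e h)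
    exact (mul_inv_eq_iff_eq_mul.1 h').symm
  refine hk ((mul_inv_cancel_right k (l : K)) ▸ mul_mem ?_ (inv_mem l.2))
  show t ∈ L
  rcases A.three ((Four.of_map (toPerm e) (toPerm_injective e) ⟨hv, hw, hvw, hc⟩).map L.subtype
    L.subtype_injective) ht2 (hfix v' cv) (hfix w' cw) with h | h | h | h <;> rw [h]
  · exact one_mem L
  · exact v'.2
  · exact w'.2
  · exact mul_mem v'.2 w'.2

end Ambient

section Global

universe u

variable {G : Type u} [Group G] [Finite G] (σ : Dne.Hyp G) (H : Subgroup G)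

include σ in
theorem ambient : Ambient σ.n (H ⧸ Cfsg.oddCore H) := by
  haveI : Fact (Nat.Prime 2) := ⟨Nat.prime_two⟩
  refine ⟨σ.pos, CfsgLib.Core.pPrimeCore_quotient_pPrimeCore 2 H, fun Q hQ => ?_⟩
  let π := QuotientGroup.mk' (Cfsg.oddCore H)
  obtain ⟨P⟩ : Nonempty (Sylow 2 H) := inferInstance
  let P' := P.mapSurjective (QuotientGroup.mk'_surjective (Cfsg.oddCore H))
  obtain ⟨R, hR⟩ := hQ.exists_le_sylow
  obtain ⟨φP, hφP⟩ : ∃ φ : (P : Subgroup H) →* DihedralGroup (2 ^ σ.n), Function.Injective φ := by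
    obtain ⟨x, hx⟩ := exists_pull σ.range (P.2.map H.subtype)
    let c : (P : Subgroup H) →* G :=
      (MulAut.conj x).toMonoidHom.comp (H.subtype.comp (P : Subgroup H).subtype)
    have hc : Function.Injective c :=
      (MulAut.conj x).injective.comp (H.subtype_injective.comp (P : Subgroup H).subtype_injective)
    have hm : ∀ p, c p ∈ σ.f.range := fun p => by
      obtain ⟨a, ha⟩ := hx _ (mem_map_of_mem _ p.2)
      exact ⟨a, ha⟩
    exact ⟨(MonoidHom.ofInjective σ.inj).symm.toMonoidHom.comp (c.codRestrict _ hm),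
      (MonoidHom.ofInjective σ.inj).symm.injective.comp fun a b h => hc (congrArg Subtype.val h)⟩
  let ψ : (P : Subgroup H) →* (P' : Subgroup (H ⧸ Cfsg.oddCore H)) :=
    (π.comp (P : Subgroup H).subtype).codRestrict _ fun p => mem_map_of_mem _ p.2
  have hψ : Function.Bijective ψ := by
    refine ⟨(injective_iff_map_eq_one _).2 fun p hp => ?_, ?_⟩
    · have h1 : (p : H) ∈ Cfsg.oddCore H :=
        (QuotientGroup.eq_one_iff _).1 (congrArg Subtype.val hp)
      refine Subtype.ext (Subgroup.disjoint_def.1 (disjoint_iff.2 ?_) p.2 h1)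
      exact inf_eq_bot_of_coprime ((IsPGroup.iff_card.1 P.2).choose_spec ▸
        ((CfsgLib.Core.coprime_card_pPrimeCore 2 H).symm.pow_left _))
    · rintro ⟨_, a, ha, rfl⟩
      exact ⟨⟨a, ha⟩, rfl⟩
  let Ψ := (MulEquiv.ofBijective ψ hψ).symm.trans (MulEquiv.refl _)
  let toP' : Q →* (P' : Subgroup (H ⧸ Cfsg.oddCore H)) :=
    ((Sylow.equiv R P').toMonoidHom).comp (inclusion hR)
  exact ⟨φP.comp (Ψ.toMonoidHom.comp toP'),
    hφP.comp (Ψ.injective.comp ((Sylow.equiv R P').injective.comp (inclusion_injective hR)))⟩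

theorem exists_derivedSeries_stable (X : Type*) [Group X] [Finite X] :
    ∃ k, ⁅derivedSeries X k, derivedSeries X k⁆ = derivedSeries X k := by
  classical
  have hex : ∃ m, ∃ k, Nat.card (derivedSeries X k) = m := ⟨_, 0, rfl⟩
  obtain ⟨k, hk⟩ := Nat.find_spec hex
  refine ⟨k, ?_⟩
  rw [← derivedSeries_succ]
  exact eq_of_le_of_card_ge (derivedSeries_antitone X k.le_succ)
    (hk ▸ Nat.find_min' hex ⟨k + 1, rfl⟩)

include σ in
/-- The structure of a proper subgroup modulo its core. -/
theorem shape (hH : H ≠ ⊤) : Shape (H ⧸ Cfsg.oddCore H) := by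
  classical
  haveI : Fact (Nat.Prime 2) := ⟨Nat.prime_two⟩
  have A := ambient σ H
  by_cases hsol : Group.IsSolvable (H ⧸ Cfsg.oddCore H)
  · exact A.solvable_shape.elim .twoGroup .klein
  set π := QuotientGroup.mk' (Cfsg.oddCore H) with hπ
  obtain ⟨k, hk⟩ := exists_derivedSeries_stable H
  set Y : Subgroup H := derivedSeries H k with hY
  haveI : Group.IsPerfect Y := isPerfect_iff.2 hk
  have hYO : ¬ Y ≤ Cfsg.oddCore H := fun h => hsol ⟨⟨k, le_bot_iff.1 ?_⟩⟩
  swap
  · rw [← map_derivedSeries_eq (f := π) (QuotientGroup.mk'_surjective _), ← QuotientGroup.ker_mk'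
      (Cfsg.oddCore H)] at *
    exact ((Subgroup.map_eq_bot_iff _).2 h).le
  have hYodd : ¬ Odd (Nat.card Y) := fun h =>
    hYO (CfsgLib.Core.le_pPrimeCore (Nat.coprime_two_right.2 h))
  let X : Subgroup G := Y.map H.subtype
  let eX : Y ≃* X := Y.equivMapOfInjective _ H.subtype_injective
  haveI : Group.IsPerfect X := Group.IsPerfect.map _
  have hXtop : X ≠ ⊤ := fun h => hH (top_le_iff.1 (h ▸ map_subtype_le Y))
  obtain ⟨P⟩ : Nonempty (Sylow 2 X) := inferInstance
  have hPnc : ¬ IsCyclic (P : Subgroup X) := fun hc => by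
    have h2 : (Nat.card X).minFac = 2 := (Nat.minFac_eq_two_iff _).2 (by
      rw [← Nat.card_congr eX.toEquiv]
      exact even_iff_two_dvd.1 (Nat.not_odd_iff_even.1 hYodd))
    have hcompl := hc.isComplement' h2
    set τ := MonoidHom.transferSylow P (hc.normalizer_le_centralizer h2)
    haveI := hc
    letI := IsCyclic.commGroup (α := (P : Subgroup X))
    have hker : τ.ker = ⊤ := top_le_iff.1 (Group.IsPerfect.commutator_eq_top (G := X) ▸
      Abelianization.commutator_subset_ker τ)
    rw [hker, Subgroup.isComplement'_top_left] at hcompl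
    refine P.not_dvd_index ?_
    rw [hcompl, index_bot, ← Nat.card_congr eX.toEquiv]
    exact even_iff_two_dvd.1 (Nat.not_odd_iff_even.1 hYodd)
  obtain ⟨x, hx⟩ := exists_pull σ.range (P.2.map X.subtype)
  let c : (P : Subgroup X) →* G :=
    (MulAut.conj x).toMonoidHom.comp (X.subtype.comp (P : Subgroup X).subtype)
  have hc : Function.Injective c :=
    (MulAut.conj x).injective.comp (X.subtype_injective.comp (P : Subgroup X).subtype_injective)
  have hm : ∀ p, c p ∈ σ.f.range := fun p => by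
    obtain ⟨a, ha⟩ := hx _ (mem_map_of_mem _ p.2)
    exact ⟨a, ha⟩
  let d : (P : Subgroup X) →* DihedralGroup (2 ^ σ.n) :=
    (MonoidHom.ofInjective σ.inj).symm.toMonoidHom.comp (c.codRestrict _ hm)
  have hd : Function.Injective d :=
    (MonoidHom.ofInjective σ.inj).symm.injective.comp fun a b h => hc (congrArg Subtype.val h)
  obtain ⟨j, hj, ⟨eD⟩⟩ := exists_dihedral_of_not_cyclic σ.pos d.range
    (fun h => hPnc ((MonoidHom.ofInjective hd).isCyclic.2 h))
  have hknown := σ.known X hXtop inferInstance P (2 ^ j)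
    ((Nat.le_self_pow (by omega) 2)) ⟨(MonoidHom.ofInjective hd).trans eD⟩
  let g : Y →* H ⧸ Cfsg.oddCore H := π.comp Y.subtype
  haveI hYn : Y.Normal := derivedSeries_normal _ k
  haveI : g.range.Normal := by
    rw [MonoidHom.range_comp, range_subtype]
    exact hYn.map π (QuotientGroup.mk'_surjective _)
  haveI : Group.IsPerfect g.range := Group.IsPerfect.range g
  have hker : g.ker = Cfsg.oddCore Y := by
    refine le_antisymm (fun y hy => CfsgLib.Core.pPrimeCore_subgroupOf_le Y ?_) fun y hy => ?_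
    · exact mem_subgroupOf.2 ((QuotientGroup.eq_one_iff _).1 hy)
    · exact (QuotientGroup.eq_one_iff _).2 (CfsgLib.Core.map_subtype_pPrimeCore_le Y (mem_map_of_mem _ hy))
  let eL : g.range ≃* X ⧸ Cfsg.oddCore X :=
    ((QuotientGroup.quotientKerEquivRange g).symm.trans (QuotientGroup.quotientMulEquivOfEq hker)).trans
      (QuotientGroup.congr _ _ eX (CfsgLib.Core.map_equiv_pPrimeCore eX))
  rcases hknown with ⟨F, hF1, hF2, hodd, h3, ⟨eF⟩⟩ | ⟨⟨e7⟩⟩
  · haveI := CfsgLib.Classical.isSimpleGroup_PSL_two (F := F) (show 4 ≤ Fintype.card F by omega)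
    haveI : IsSimpleGroup g.range :=
      haveI : Nontrivial g.range := (eL.trans eF).toEquiv.nontrivial
      IsSimpleGroup.isSimpleGroup_of_surjective (eL.trans eF).symm.toMonoidHom (eL.trans eF).symm.surjective
    obtain ⟨v, w, hvw⟩ := exists_four (F := F)
      (two_ne_zero_of_odd' hodd)
    exact .linear F g.range (eL.trans eF) ⟨A.centralizer_eq_bot _
      (hvw.map (eL.trans eF).symm.toMonoidHom (eL.trans eF).symm.injective), hodd, by omega⟩
  · haveI := alternatingGroup.isSimpleGroup (α := Fin 7) (by simp)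
    let e := eL.trans e7
    haveI : IsSimpleGroup g.range :=
      haveI : Nontrivial g.range := e.toEquiv.nontrivial
      IsSimpleGroup.isSimpleGroup_of_surjective e.symm.toMonoidHom e.symm.surjective
    obtain ⟨v, w, hvw⟩ := even_four e
    have htop := A.seven_top g.range e (A.centralizer_eq_bot _ hvw)
    exact .seven ⟨(topEquiv.symm.trans (MulEquiv.subgroupCongr htop.symm)).trans e⟩

end Global

end CfsgLib.GW.KFactsProof
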