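import Cfsg.Agent.Lib.GW.KFactsProof.Auto
import Cfsg.Agent.Lib.Classical.PSLTwoSimple

/-!
# The facts for `K` between `PSL(2, q)` and its automorphism group
-/

set_option autoImplicit false

namespace CfsgLib.GW.KFactsProof

open Subgroup
open CfsgLib.Known.AutPSL

variable {K : Type*} [Group K] [Finite K] {F : Type*} [Field F] [Fintype F]
variable (L : Subgroup K) [hLn : L.Normal] (e : L ≃* PSL 2 F)

/-- The action on the normal subgroup. -/
noncomputable def toAut : K →* MulAut (PSL 2 F) :=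
  (MulAut.congr e).toMonoidHom.comp MulAut.conjNormal

theorem toAut_apply (k : K) (y : L) :
    toAut L e k (e y) = e ⟨k * y * k⁻¹, hLn.conj_mem _ y.2 k⟩ := by
  show e (MulAut.conjNormal k (e.symm (e y))) = _
  rw [e.symm_apply_apply]
  exact congrArg e (Subtype.ext (MulAut.conjNormal_apply k y))

theorem toAut_of_mem (l : L) : toAut L e (l : K) = MulAut.conj (e l) := by
  refine MulEquiv.ext fun z => ?_
  obtain ⟨y, rfl⟩ := e.surjective z
  rw [toAut_apply, MulAut.conj_apply, ← map_inv, ← map_mul, ← map_mul]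
  rfl

/-- The standing hypotheses. -/
structure IsLin {K : Type*} [Group K] {F : Type*} [Field F] [Fintype F] (L : Subgroup K)
    (_e : L ≃* PSL 2 F) : Prop where
  cen : centralizer (L : Set K) = ⊥
  odd : Odd (Fintype.card F)
  four_le : 4 ≤ Fintype.card F

variable {L e} (hK : IsLin L e)
include hK

theorem toAut_injective : Function.Injective (toAut L e) := by
  refine (injective_iff_map_eq_one _).2 fun k hk => ?_
  rw [← mem_bot, ← hK.cen, mem_centralizer_iff]
  intro y hy
  have h := toAut_apply L e k ⟨y, hy⟩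
  rw [hk, MulAut.one_apply] at h
  have h' := congrArg Subtype.val (e.injective h)
  simp only at h'
  exact (eq_mul_inv_iff_mul_eq.1 h').symm ▸ rfl

theorem mem_of_inn {k : K} (h : toAut L e k ∈ Cfsg.Inn (PSL 2 F)) : k ∈ L := by
  obtain ⟨z, hz⟩ := h
  obtain ⟨l, rfl⟩ := e.surjective z
  rw [← toAut_of_mem L e l] at hz
  exact toAut_injective hK hz ▸ l.2

omit hK in
theorem inn_of_mem {k : K} (h : k ∈ L) : toAut L e k ∈ Cfsg.Inn (PSL 2 F) :=
  ⟨e ⟨k, h⟩, (toAut_of_mem L e ⟨k, h⟩).symm⟩

theorem le_of_normal {N : Subgroup K} (hN : N.Normal) (h1 : N ≠ ⊥) : L ≤ N := by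
  haveI : IsSimpleGroup L :=
    haveI := CfsgLib.Classical.isSimpleGroup_PSL_two hK.four_le
    haveI : Nontrivial L := e.symm.injective.nontrivial
    IsSimpleGroup.isSimpleGroup_of_surjective e.symm.toMonoidHom e.symm.surjective
  rcases (inferInstance : (N.subgroupOf L).Normal).eq_bot_or_eq_top with h | h
  · exfalso
    refine h1 (le_bot_iff.1 (hK.cen ▸ fun n hn => mem_centralizer_iff.2 fun y hy => ?_))
    have hd : Disjoint N L := subgroupOf_eq_bot.1 h
    have hc : n * y * n⁻¹ * y⁻¹ = 1 := hd.le_bot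
      ⟨show n * y * n⁻¹ * y⁻¹ ∈ N by
          rw [mul_assoc, mul_assoc]
          exact mul_mem hn (by rw [← mul_assoc]; exact hN.conj_mem _ (inv_mem hn) y),
        show n * y * n⁻¹ * y⁻¹ ∈ L from mul_mem (hLn.conj_mem y hy n) (inv_mem hy)⟩
    calc y * n = n * y * n⁻¹ * y⁻¹ * (y * n) := by rw [hc, one_mul]
      _ = n * y := by group
  · exact subgroupOf_eq_top.1 h

theorem map_eq (β : MulAut K) : L.map β.toMonoidHom = L := by
  have hn : (L.map β.toMonoidHom).Normal := hLn.map _ β.surjective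
  have hne : L.map β.toMonoidHom ≠ ⊥ := by
    rw [Ne, map_eq_bot_iff_of_injective _ β.injective]
    intro h
    haveI : Subsingleton L := by rw [h]; infer_instance
    haveI : Subsingleton (PSL 2 F) := e.symm.injective.subsingleton
    have := CfsgLib.Classical.isSimpleGroup_PSL_two hK.four_le
    exact not_nontrivial (PSL 2 F) (IsSimpleGroup.toNontrivial)
  refine (eq_of_le_of_card_ge (le_of_normal hK hn hne) ?_).symm
  rw [card_map_of_injective β.injective]

/-- The automorphism of `PSL(2, q)` induced by an automorphism of `K`. -/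
theorem exists_restr (β : MulAut K) : ∃ ψ : MulAut (PSL 2 F),
    (∀ l : L, ∃ hl : β l ∈ L, e ⟨β l, hl⟩ = ψ (e l)) ∧
    ∀ k : K, toAut L e (β k) = ψ * toAut L e k * ψ⁻¹ := by
  let b : MulAut L := (L.equivMapOfInjective β.toMonoidHom β.injective).trans
    (MulEquiv.subgroupCongr (map_eq hK β))
  have hb : ∀ l : L, ((b l : L) : K) = β l := fun l => rfl
  refine ⟨MulAut.congr e b, fun l => ⟨hb l ▸ (b l).2, ?_⟩, fun k => ?_⟩
  · show _ = e (b (e.symm (e l)))
    rw [e.symm_apply_apply]
    exact congrArg e (Subtype.ext (hb l).symm)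
  · rw [eq_mul_inv_iff_mul_eq]
    refine MulEquiv.ext fun z => ?_
    obtain ⟨y, rfl⟩ := e.surjective z
    have e1 : ∀ w : L, (MulAut.congr e b) (e w) = e (b w) := fun w => by
      show e (b (e.symm (e w))) = _
      rw [e.symm_apply_apply]
    rw [MulAut.mul_apply, MulAut.mul_apply, e1, toAut_apply, toAut_apply, e1]
    congr 1
    refine Subtype.ext ?_
    show β k * (b y : K) * (β k)⁻¹ = β (k * y * k⁻¹)
    rw [hb, map_mul, map_mul, map_inv]

omit hK in
theorem eAb_pow {r : ℕ} {A : Subgroup K} (hA : EAb r A) {a : K} (ha : a ∈ A) : toAut L e a ^ r = 1 := by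
  rw [← map_pow, hA.pow a ha, map_one]

theorem four_mem : ∃ v ∈ L, ∃ w ∈ L, Four v w := by
  obtain ⟨p, hp⟩ := CharP.exists F
  obtain ⟨f, hpp, hf⟩ := FiniteField.card F p
  haveI : Fact p.Prime := ⟨hpp⟩
  have hp2 : p ≠ 2 := fun h => (Nat.not_even_iff_odd.2 hK.odd) (by
    rw [hf, h]; exact (even_two).pow_of_ne_zero f.ne_zero)
  obtain ⟨v, w, h⟩ := exists_four (CfsgLib.Classical.Two.two_ne_zero_of_char (F := F) hp2)
  exact ⟨_, (e.symm v).2, _, (e.symm w).2,
    (h.map e.symm.toMonoidHom e.symm.injective).map L.subtype L.subtype_injective⟩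

omit hK in
theorem two_ne_zero_of_odd' (h : Odd (Fintype.card F)) : (2 : F) ≠ 0 := by
  obtain ⟨p, hp⟩ := CharP.exists F
  obtain ⟨f, hpp, hf⟩ := FiniteField.card F p
  haveI : Fact p.Prime := ⟨hpp⟩
  exact CfsgLib.Classical.Two.two_ne_zero_of_char fun h' => (Nat.not_even_iff_odd.2 h) (by
    rw [hf, h']; exact (even_two).pow_of_ne_zero f.ne_zero)

/-- The automorphism induced by a tame one is inner-diagonal, not trivial, of order two. -/
theorem tame_restr {β : MulAut K} (hβ : Tame β) {ψ : MulAut (PSL 2 F)}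
    (hψ : ∀ l : L, ∃ hl : β l ∈ L, e ⟨β l, hl⟩ = ψ (e l)) :
    ψ * ψ = 1 ∧ fld ψ = 1 ∧ ψ ≠ 1 := by
  have happ : ∀ v : PSL 2 F, ψ v = v → β (e.symm v : K) = (e.symm v : K) := by
    intro v hv
    obtain ⟨hl, h⟩ := hψ (e.symm v)
    rw [e.apply_symm_apply, hv] at h
    exact congrArg Subtype.val (e.injective (h.trans (e.apply_symm_apply v).symm))
  have hinner : ∀ v w : PSL 2 F, Four v w → ψ v = v → ψ w = w →
      ∃ z : PSL 2 F, z ≠ 1 ∧ ψ = MulAut.conj z := by
    intro v w h hv hw
    have h4 : Four (e.symm v : K) (e.symm w : K) :=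
      (h.map e.symm.toMonoidHom e.symm.injective).map L.subtype L.subtype_injective
    obtain ⟨k, hk, hβk⟩ := hβ.four _ _ h4 (happ v hv) (happ w hw)
    have hkL : k ∈ L := by
      rcases hk with rfl | rfl | rfl
      exacts [(e.symm v).2, (e.symm w).2, mul_mem (e.symm v).2 (e.symm w).2]
    have hk1 : k ≠ 1 := by
      rintro rfl
      rcases hk with e' | e' | e'
      · exact orderOf_eq_one_iff.not.1 (by rw [h4.hv]; norm_num) e'.symm
      · exact orderOf_eq_one_iff.not.1 (by rw [h4.hw]; norm_num) e'.symm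
      · refine h4.ne ((eq_inv_of_mul_eq_one_left e'.symm).trans (inv_eq_of_mul_eq_one_right ?_))
        have h := pow_orderOf_eq_one (e.symm w : K)
        rwa [h4.hw, pow_two] at h
    refine ⟨e ⟨k, hkL⟩, fun e1 => hk1 (congrArg Subtype.val (e.injective (e1.trans (map_one e).symm))),
      MulEquiv.ext fun z => ?_⟩
    obtain ⟨y, rfl⟩ := e.surjective z
    obtain ⟨hl, h⟩ := hψ y
    rw [← h, MulAut.conj_apply, ← map_inv, ← map_mul, ← map_mul]
    exact congrArg e (Subtype.ext (show β (y : K) = k * y * k⁻¹ by rw [hβk]; rfl))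
  have hsq : ψ * ψ = 1 := MulEquiv.ext fun z => by
    obtain ⟨y, rfl⟩ := e.surjective z
    obtain ⟨hl, h⟩ := hψ y
    obtain ⟨hl2, h2⟩ := hψ ⟨β y, hl⟩
    rw [MulAut.mul_apply, ← h, ← h2, MulAut.one_apply]
    exact congrArg e (Subtype.ext (by
      show β (β (y : K)) = y
      rw [← MulAut.mul_apply, hβ.sq, MulAut.one_apply]))
  refine ⟨hsq, ?_, ?_⟩
  · by_contra hf
    obtain ⟨v, w, h, hv, hw⟩ := exists_four_of_fld (two_ne_zero_of_odd' hK.odd) Nat.prime_two
      (by rw [pow_two, hsq]) hf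
    obtain ⟨z, -, rfl⟩ := hinner v w h hv hw
    exact hf (fld_conj z)
  · intro h1
    obtain ⟨v, w, h⟩ := exists_four (two_ne_zero_of_odd' (F := F) hK.odd)
    obtain ⟨z, hz, e'⟩ := hinner v w h (by rw [h1]; rfl) (by rw [h1]; rfl)
    refine hz ?_
    have hc : z ∈ center (PSL 2 F) := mem_center_iff.2 fun y => by
      have := DFunLike.congr_fun (h1 ▸ e') y
      rw [MulAut.one_apply, MulAut.conj_apply, eq_mul_inv_iff_mul_eq] at this
      exact this
    rwa [CfsgLib.Known.BalancePSL.center_psl_bot le_rfl, mem_bot] at hc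

/-- Odd elements of an inner-like subgroup lie in `L`. -/
theorem mem_of_inner {N : Subgroup K} (hN : InnerN N) {x : K} (hx : x ∈ N) (ho : Odd (orderOf x)) :
    x ∈ L := by
  let o : K →* Cfsg.Out (PSL 2 F) := (QuotientGroup.mk' _).comp (toAut L e)
  have hcomm : ∀ a b : K, o a * o b = o b * o a := fun a b => by
    rw [← mul_inv_eq_one, ← map_mul, ← map_mul, ← map_inv, ← map_mul]
    show (QuotientGroup.mk (toAut L e _) : Cfsg.Out (PSL 2 F)) = 1
    rw [QuotientGroup.eq_one_iff, map_mul, map_inv, map_mul, map_mul, mul_inv_rev, ← mul_assoc]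
    exact commutator_mem_inn _ _
  have hall : ∀ y ∈ closure {x | x ∈ N ∧ ∃ k : ℕ, x ^ 2 ^ k = 1}, ∃ k : ℕ, o y ^ 2 ^ k = 1 := by
    intro y hy
    induction hy using closure_induction with
    | mem z hz => exact hz.2.imp fun k h => by rw [← map_pow, h, map_one]
    | one => exact ⟨0, by rw [map_one, one_pow]⟩
    | mul a b _ _ iha ihb =>
      obtain ⟨i, hi⟩ := iha
      obtain ⟨j, hj⟩ := ihb
      refine ⟨i + j, ?_⟩
      rw [map_mul, (show Commute (o a) (o b) from hcomm a b).mul_pow, pow_add, pow_mul, hi, one_pow, one_mul,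
        mul_comm, pow_mul, hj, one_pow]
    | inv a _ iha => exact iha.imp fun k h => by rw [map_inv, inv_pow, h, inv_one]
  obtain ⟨k, hk⟩ := hall x (hN.gen hx)
  have h1 : o x = 1 := orderOf_eq_one_iff.1 (Nat.eq_one_of_dvd_coprimes
    ((Nat.coprime_two_left.2 ho).pow_left k) (orderOf_dvd_of_pow_eq_one hk) (orderOf_map_dvd o x))
  exact mem_of_inn hK ((QuotientGroup.eq_one_iff _).1 h1)

section Prime

variable {r : ℕ} [hr : Fact r.Prime] (hr2 : r ≠ 2)
include hr2

theorem pGroup_le {N A : Subgroup K} (hN : InnerN N) (hA : A ≤ N) (hAp : IsPGroup r A) : A ≤ L := fun a ha => by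
  refine mem_of_inner hK hN (hA ha) ?_
  obtain ⟨k, hk⟩ := hAp ⟨a, ha⟩
  exact ((hr.out.odd_of_ne_two hr2).pow).of_dvd_nat (orderOf_dvd_of_pow_eq_one (congrArg Subtype.val hk))

theorem mem_of_fld {a : K} {k : ℕ} (ha : a ^ r ^ k = 1) (hf : fld (toAut L e a) = 1) : a ∈ L :=
  mem_of_inn hK (mem_inn_of_odd (k := r ^ k) (hr.out.odd_of_ne_two hr2).pow
    (by rw [← map_pow, ha, map_one]) hf)

/-- The field part of an exponent `r` subgroup has order at most `r`. -/
theorem card_le_mul {A : Subgroup K} (hA : ∀ a ∈ A, a ^ r = 1) :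
    Nat.card A ≤ r * Nat.card (A ⊓ L : Subgroup K) := by
  let θ : A →* (F ≃+* F) := (fld.comp (toAut L e)).comp A.subtype
  haveI := isCyclic_ringAut (F := F)
  haveI : Finite (F ≃+* F) := Finite.of_injective (fun σ => (σ : F → F)) DFunLike.coe_injective
  rw [← θ.ker.index_mul_card, index_ker]
  refine Nat.mul_le_mul (card_le_of_isCyclic hr.out.pos ?_) ?_
  · rintro _ ⟨a, rfl⟩
    rw [← map_pow, show a ^ r = 1 from Subtype.ext (hA a a.2), map_one]
  · rw [← card_map_of_injective A.subtype_injective]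
    refine card_le_of_le ?_
    rintro _ ⟨a, ha, rfl⟩
    exact ⟨a.2, mem_of_fld hK hr2 (k := 1) (by rw [pow_one]; exact hA a a.2) ha⟩

omit hr2 in
omit hK in
theorem image_pGroup {A : Subgroup K} (hA : IsPGroup r A) :
    IsPGroup r ((A.subgroupOf L).map e.toMonoidHom) :=
  (hA.comap_of_injective L.subtype L.subtype_injective).map _

omit hK hr2 in
theorem mem_image {A : Subgroup K} {a : K} (ha : a ∈ A) (hL : a ∈ L) :
    e ⟨a, hL⟩ ∈ (A.subgroupOf L).map e.toMonoidHom := ⟨⟨a, hL⟩, ha, rfl⟩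

/-- A subgroup of `L` of exponent `r` and order at least `r²` forces `r` to be the characteristic. -/
theorem charP_of_big (p : ℕ) [Fact p.Prime] [CharP F p] {A : Subgroup K} (hA : ∀ a ∈ A, a ^ r = 1)
    (hb : r ^ 2 ≤ Nat.card (A ⊓ L : Subgroup K)) : r = p := by
  by_contra hrp
  set S := (A.subgroupOf L).map e.toMonoidHom
  have hexp : ∀ s ∈ S, s ^ r = 1 := by
    rintro _ ⟨a, ha, rfl⟩
    rw [← map_pow, show a ^ r = 1 from Subtype.ext (hA _ ha), map_one]
  have hS : IsPGroup r S := fun s => ⟨1, Subtype.ext (by rw [pow_one, coe_pow, coe_one]; exact hexp s s.2)⟩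
  obtain ⟨P, hP⟩ := hS.exists_le_sylow
  haveI := isCyclic_sylow (F := F) p hr2 hrp P
  haveI : IsCyclic S := isCyclic_of_injective (inclusion hP) (inclusion_injective hP)
  have h1 := card_le_of_isCyclic hr.out.pos hexp
  rw [card_map_of_injective e.injective, ← card_map_of_injective L.subtype_injective,
    subgroupOf_map_subtype] at h1
  have := hr.out.two_le
  nlinarith [hb.trans h1]

theorem commute_of_le {A : Subgroup K} (hA : IsPGroup r A) (hAL : A ≤ L) {a b : K} (ha : a ∈ A) (hb : b ∈ A) :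
    Commute a b := by
  obtain ⟨p, hp⟩ := CharP.exists F
  obtain ⟨f, hpp, -⟩ := FiniteField.card F p
  haveI : Fact p.Prime := ⟨hpp⟩
  have h := commute_of_pGroup p hr2 (image_pGroup (e := e) hA) (mem_image ha (hAL ha)) (mem_image hb (hAL hb))
  have h' := e.injective (show e (⟨a, hAL ha⟩ * ⟨b, hAL hb⟩) = e (⟨b, hAL hb⟩ * ⟨a, hAL ha⟩) by
    rw [map_mul, map_mul]; exact h)
  exact congrArg Subtype.val h'

/-- No element of characteristic order of `L` is fixed by a tame automorphism. -/
theorem tame_fix (p : ℕ) [Fact p.Prime] [CharP F p] (hrp : r = p) {β : MulAut K} (hβ : Tame β) {a : K}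
    (haL : a ∈ L) (ha : a ^ r = 1) (hfix : β a = a) : a = 1 := by
  subst hrp
  obtain ⟨ψ, hψ, -⟩ := exists_restr hK β
  obtain ⟨hsq, hf, hne⟩ := tame_restr hK hβ hψ
  by_contra h1
  refine hne (eq_one_of_fix r hr2 hsq hf (u := e ⟨a, haL⟩) ?_ (k := 1) ?_ ?_)
  · exact fun e1 => h1 (congrArg Subtype.val (e.injective (e1.trans (map_one e).symm)))
  · rw [pow_one, ← map_pow, show (⟨a, haL⟩ : L) ^ r = 1 from Subtype.ext ha, map_one]
  · obtain ⟨hl, h⟩ := hψ ⟨a, haL⟩
    rw [← h]
    exact congrArg e (Subtype.ext hfix)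

theorem lin_facts : Facts K r := by
  obtain ⟨p, hp⟩ := CharP.exists F
  obtain ⟨f, hpp, -⟩ := FiniteField.card F p
  haveI : Fact p.Prime := ⟨hpp⟩
  have hLN : ∀ N : Subgroup K, InnerN N → L ≤ N := fun N hN => le_of_normal hK hN.normal hN.ne
  have hinf : ∀ {N A : Subgroup K}, InnerN N → IsPGroup r A → A ⊓ N ≤ A ⊓ L := fun hN hA =>
    le_inf inf_le_left (pGroup_le hK hr2 hN inf_le_right (hA.to_le inf_le_left))
  have hp' : r = p → p ≠ 2 := fun h => h ▸ hr2
  constructor
  case four =>
    intro N hN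
    obtain ⟨v, hv, w, hw, h⟩ := four_mem hK
    exact Or.inl ⟨v, hLN N hN hv, w, hLN N hN hw, h⟩
  case quot =>
    intro N A hN hA
    exact (card_le_mul hK hr2 hA.pow).trans
      (Nat.mul_le_mul_left _ (card_le_of_le (inf_le_inf_left A (hLN N hN))))
  case comm =>
    intro N A hN _ _ β a _
    obtain ⟨ψ, -, hψ⟩ := exists_restr hK β
    refine hLN N hN (mem_of_inn hK ?_)
    rw [map_mul, hψ, map_inv, ← mul_assoc, ← mul_assoc]
    have := commutator_mem_inn (toAut L e a) ψ
    simpa [mul_assoc] using this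
  case abel =>
    intro N A hN hAN hA a ha b hb
    exact commute_of_le hK hr2 hA (pGroup_le hK hr2 hN hAN hA) ha hb
  case expAbel =>
    intro E hE β hβ hcases a ha b hb
    have hEp : IsPGroup r E := fun x => ⟨1, Subtype.ext (by rw [pow_one, coe_pow, coe_one]; exact hE x x.2)⟩
    by_cases hle : E ≤ L
    · exact commute_of_le hK hr2 hEp hle ha hb
    refine commute_of_card_le_sq hEp ?_ ha hb
    have hc := card_le_mul hK hr2 hE
    rcases hcases with hfix | hinv
    · suffices Nat.card (E ⊓ L : Subgroup K) ≤ r by rw [pow_two]; exact hc.trans (Nat.mul_le_mul_left _ this)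
      by_cases hrp : r = p
      · suffices h : E ⊓ L = ⊥ by rw [h, Subgroup.card_bot]; exact hr.out.one_le
        exact (eq_bot_iff_forall _).2 fun x hx =>
          tame_fix hK hr2 p hrp hβ hx.2 (hE x hx.1) (hfix x hx.1)
      · by_contra hlt
        refine hrp (charP_of_big hK hr2 p hE ?_)
        obtain ⟨k, hk⟩ := IsPGroup.iff_card.1 (hEp.to_le (inf_le_left : E ⊓ L ≤ E))
        rw [hk] at hlt ⊢
        exact Nat.pow_le_pow_right hr.out.pos (by
          by_contra hk2
          exact hlt ((Nat.pow_le_pow_right hr.out.pos (show k ≤ 1 by omega)).trans (pow_one r).le))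
    · exfalso
      obtain ⟨ψ, -, hψ⟩ := exists_restr hK β
      refine hle fun x hx => mem_of_fld hK hr2 (k := 1) (by rw [pow_one]; exact hE x hx) ?_
      have : x ∈ (fld.comp (toAut L e)).ker := (closure_le _).2 (fun y hy => ?_) (hinv hx)
      · exact this
      · obtain ⟨hyE, hy'⟩ := hy
        show fld (toAut L e y) = 1
        set s := fld (toAut L e y) with hs
        haveI := isCyclic_ringAut (F := F)
        have e2 : s = s⁻¹ := by
          have h := congrArg (fld ∘ toAut L e) hy'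
          simp only [Function.comp_apply, map_inv] at h
          rw [hψ, map_mul, map_mul, map_inv] at h
          letI := IsCyclic.commGroup (α := F ≃+* F)
          rwa [mul_inv_cancel_comm] at h
        have h2 : s * s = 1 := by nth_rw 2 [e2]; rw [mul_inv_cancel]
        have hr' : s ^ r = 1 := by rw [hs, ← map_pow, ← map_pow, hE y hyE, map_one, map_one]
        obtain ⟨t, ht⟩ := hr.out.odd_of_ne_two hr2
        rw [ht, pow_succ, pow_mul, pow_two, h2, one_pow, one_mul] at hr'
        exact hr'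
  case free =>
    intro N A hN hA hAN hbig β hβ _ a ha hfix
    have hAL := pGroup_le hK hr2 hN hAN hA.isPGroup
    have hrp := charP_of_big hK hr2 p hA.pow (by rwa [inf_eq_left.2 hAL])
    exact tame_fix hK hr2 p hrp hβ (hAL ha) (hA.pow a ha) hfix
  case outer =>
    intro N A hN hA _ a ha haN
    have hf : fld (toAut L e a) ≠ 1 := fun h =>
      haN (hLN N hN (mem_of_fld hK hr2 (k := 1) (by rw [pow_one]; exact hA.pow a ha) h))
    obtain ⟨v, w, h, hv, hw⟩ :=
      exists_four_of_fld (two_ne_zero_of_odd' hK.odd) hr.out (eAb_pow hA ha) hf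
    have hc : ∀ z, toAut L e a z = z → Commute (e.symm z : K) a := fun z hz => by
      have h' := toAut_apply L e a (e.symm z)
      rw [e.apply_symm_apply, hz] at h'
      have h'' := congrArg Subtype.val ((e.symm_apply_eq).2 h')
      exact eq_mul_inv_iff_mul_eq.1 h''
    exact ⟨_, hLN N hN (e.symm v).2, _, hLN N hN (e.symm w).2,
      (h.map e.symm.toMonoidHom e.symm.injective).map L.subtype L.subtype_injective, hc v hv, hc w hw⟩
  case bigInner =>
    intro N A hN hA hbig R hAR hnorm
    by_contra hAN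
    obtain ⟨a, ha, haN⟩ := SetLike.not_le_iff_exists.1 hAN
    have hrp := charP_of_big hK hr2 p hA.pow (hbig.trans (card_le_of_le (hinf hN hA.isPGroup)))
    subst hrp
    have hf : fld (toAut L e a) * fld (toAut L e a) ≠ 1 := by
      intro h2
      refine haN (hLN N hN (mem_of_fld hK hr2 (k := 1) (by rw [pow_one]; exact hA.pow a ha) ?_))
      have h1 : fld (toAut L e a) ^ r = 1 := by rw [← map_pow, eAb_pow hA ha, map_one]
      obtain ⟨t, ht⟩ := hr.out.odd_of_ne_two hr2
      rwa [ht, pow_succ, pow_mul, pow_two, h2, one_pow, one_mul] at h1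
    have hSp : IsPGroup r (((R : Subgroup K).subgroupOf L).map e.toMonoidHom) := image_pGroup R.2
    obtain ⟨U, hU⟩ := hSp.exists_le_sylow
    have hUeq : ((R : Subgroup K).subgroupOf L).map e.toMonoidHom = (U : Subgroup (PSL 2 F)) := by
      refine eq_of_le_of_card_ge hU ?_
      set V := ((U : Subgroup (PSL 2 F)).map e.symm.toMonoidHom).map L.subtype with hV
      have hVp : IsPGroup r V := (U.2.map _).map _
      obtain ⟨Q, hQ⟩ := hVp.exists_le_sylow
      obtain ⟨g, hg⟩ := MulAction.exists_smul_eq K Q R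
      have hsub : V.map (MulAut.conj g).toMonoidHom ≤ (R : Subgroup K) ⊓ L := by
        rintro _ ⟨x, hx, rfl⟩
        refine ⟨hg ▸ ⟨x, hQ hx, rfl⟩, ?_⟩
        obtain ⟨y, -, rfl⟩ := hx
        exact hLn.conj_mem _ y.2 g
      have h1 := card_le_of_le hsub
      rw [card_map_of_injective (MulAut.conj g).injective, hV, card_map_of_injective L.subtype_injective,
        card_map_of_injective e.symm.injective] at h1
      rwa [card_map_of_injective e.injective, ← card_map_of_injective L.subtype_injective,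
        subgroupOf_map_subtype]
    have hstab : ∀ u ∈ (U : Subgroup (PSL 2 F)), toAut L e a u ∈ (U : Subgroup (PSL 2 F)) := by
      intro u hu
      rw [← hUeq] at hu ⊢
      obtain ⟨y, hy, rfl⟩ := hu
      exact ⟨⟨a * y * a⁻¹, hLn.conj_mem _ y.2 a⟩,
        mul_mem (mul_mem (hAR ha) hy) (inv_mem (hAR ha)), (toAut_apply L e a y).symm⟩
    obtain ⟨u, hu, hne⟩ := exists_moved r hr2 U hstab hf
    refine hne ?_
    rw [← hUeq] at hu
    obtain ⟨y, hy, rfl⟩ := hu
    have hy' : (y : K) * (a * (y : K)⁻¹ * a⁻¹) ∈ A := by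
      have h1 : (y : K) * a * (y : K)⁻¹ ∈ A := (mem_normalizer_iff.1 (hnorm hy) a).1 ha
      rw [show (y : K) * (a * (y : K)⁻¹ * a⁻¹) = (y : K) * a * (y : K)⁻¹ * a⁻¹ by group]
      exact mul_mem h1 (inv_mem ha)
    have hc := hA.comm a ha _ hy'
    set w : L := y * ⟨a * (y : K)⁻¹ * a⁻¹, hLn.conj_mem _ (inv_mem y.2) a⟩ with hw
    have e1 : e.toMonoidHom y * (toAut L e a (e.toMonoidHom y))⁻¹ = e w := by
      show e y * (toAut L e a (e y))⁻¹ = _
      rw [← map_inv, ← map_inv, toAut_apply, hw, map_mul]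
      rfl
    rw [e1, toAut_apply]
    refine congrArg e (Subtype.ext ?_)
    show a * ((w : L) : K) * a⁻¹ = w
    rw [show ((w : L) : K) = (y : K) * (a * (y : K)⁻¹ * a⁻¹) from rfl, hc.eq, mul_inv_cancel_right]
  case bigSelf =>
    intro N A hN hA hAN hbig P hP hPN hmax hAP hnorm x hx
    have hPL := pGroup_le hK hr2 hN hPN hP
    have hrp := charP_of_big hK hr2 p hA.pow (by rwa [inf_eq_left.2 (hAP.trans hPL)])
    subst hrp
    obtain ⟨U, hU⟩ := (image_pGroup (e := e) (L := L) hP).exists_le_sylow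
    set V := ((U : Subgroup (PSL 2 F)).map e.symm.toMonoidHom).map L.subtype
    have hPV : P = V := by
      refine (hmax V ((U.2.map _).map _) (fun q hq => ?_) (fun q hq => ?_)).symm
      · exact ⟨⟨q, hPL hq⟩, ⟨e ⟨q, hPL hq⟩, hU (mem_image hq (hPL hq)), e.symm_apply_apply _⟩, rfl⟩
      · obtain ⟨y, -, rfl⟩ := hq
        exact hLN N hN y.2
    have hmemP : ∀ z : L, (z : K) ∈ P ↔ e z ∈ (U : Subgroup (PSL 2 F)) := by
      intro z
      rw [hPV]
      constructor
      · rintro ⟨y, ⟨u, hu, rfl⟩, h⟩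
        obtain rfl : e.symm u = z := Subtype.ext h
        rwa [e.apply_symm_apply]
      · exact fun h => ⟨z, ⟨e z, h, e.symm_apply_apply z⟩, rfl⟩
    have hAU : (A.subgroupOf L).map e.toMonoidHom ≤ (U : Subgroup (PSL 2 F)) := by
      rintro _ ⟨y, hy, rfl⟩
      exact (hmemP y).1 (hAP hy)
    have hne : (A.subgroupOf L).map e.toMonoidHom ≠ ⊥ := by
      intro h0
      rw [map_eq_bot_iff_of_injective _ e.injective] at h0
      have h1 := card_eq_one.2 h0
      rw [← card_map_of_injective L.subtype_injective, subgroupOf_map_subtype,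
        inf_eq_left.2 (hAP.trans hPL)] at h1
      have := hr.out.two_le
      nlinarith
    have hfull := eq_sylow_of_invariant r hr2 U hAU hne (fun l hl => ?_)
    · have hfix : ∀ u ∈ (U : Subgroup (PSL 2 F)), toAut L e x u = u := by
        intro u hu
        obtain ⟨y, hy, rfl⟩ := hfull hu
        show toAut L e x (e y) = e y
        rw [toAut_apply]
        exact congrArg e (Subtype.ext (by
          show x * (y : K) * x⁻¹ = y
          rw [(hx y hy).eq, mul_inv_cancel_right]))
      obtain ⟨u, hu, he⟩ := exists_conj_of_fix r U hfix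
      obtain ⟨z, rfl⟩ := e.surjective u
      rw [← toAut_of_mem] at he
      obtain rfl := toAut_injective hK he
      obtain ⟨y, hy, hyz⟩ := hfull hu
      obtain rfl : y = z := e.injective hyz
      exact hy
    · obtain ⟨z, rfl⟩ := e.surjective l
      have hzn : (z : K) ∈ normalizer (A : Set K) := by
        refine hnorm ⟨hLN N hN z.2, mem_normalizer_iff.2 fun q => ?_⟩
        show q ∈ P ↔ (z : K) * q * (z : K)⁻¹ ∈ P
        constructor
        · intro hq
          have := (mem_normalizer_iff.1 hl _).1 ((hmemP ⟨q, hPL hq⟩).1 hq)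
          rw [← map_inv, ← map_mul, ← map_mul] at this
          exact (hmemP (z * ⟨q, hPL hq⟩ * z⁻¹)).2 this
        · intro hq
          have hqL : q ∈ L := by
            have := hLn.conj_mem _ (hPL hq) (z : K)⁻¹
            simpa [mul_assoc] using this
          refine (hmemP ⟨q, hqL⟩).2 ((mem_normalizer_iff.1 hl _).2 ?_)
          rw [← map_inv, ← map_mul, ← map_mul]
          exact (hmemP (z * ⟨q, hqL⟩ * z⁻¹)).1 hq
      refine mem_normalizer_iff.2 fun u => ?_
      obtain ⟨y, rfl⟩ := e.surjective u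
      rw [← map_inv, ← map_mul, ← map_mul]
      rw [show ∀ w : L, (e w ∈ (A.subgroupOf L).map e.toMonoidHom ↔ (w : K) ∈ A) from fun w =>
        ⟨fun ⟨v, hv, hvw⟩ => e.injective hvw ▸ hv, fun h => ⟨w, h, rfl⟩⟩,
        show ∀ w : L, (e w ∈ (A.subgroupOf L).map e.toMonoidHom ↔ (w : K) ∈ A) from fun w =>
        ⟨fun ⟨v, hv, hvw⟩ => e.injective hvw ▸ hv, fun h => ⟨w, h, rfl⟩⟩]
      exact mem_normalizer_iff.1 hzn y
  case cent =>
    intro N A hN hA hAN hbig a ha ha1 x hxN hxo hc
    have hAL := pGroup_le hK hr2 hN hAN hA.isPGroup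
    have hxL := mem_of_inner hK hN hxN hxo
    have hrp := charP_of_big hK hr2 p hA.pow (by rwa [inf_eq_left.2 hAL])
    subst hrp
    refine ⟨1, ?_⟩
    have h := isPElt_of_commute r hr2 (u := e ⟨a, hAL ha⟩) (x := e ⟨x, hxL⟩)
      (fun e1 => ha1 (congrArg Subtype.val (e.injective (e1.trans (map_one e).symm)))) (k := 1)
      (by rw [pow_one, ← map_pow, show (⟨a, hAL ha⟩ : L) ^ r = 1 from Subtype.ext (hA.pow a ha), map_one])
      ((show Commute (⟨a, hAL ha⟩ : L) ⟨x, hxL⟩ from Subtype.ext hc.symm.eq).map e.toMonoidHom)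
    rw [← map_pow] at h
    rw [pow_one]
    exact congrArg Subtype.val (e.injective (h.trans (map_one e).symm))

end Prime

end CfsgLib.GW.KFactsProof
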