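import Cfsg.Agent.Lib.GW.KFactsProof.Shape

/-!
# The facts for small groups, and for every shape
-/

set_option autoImplicit false

namespace CfsgLib.GW.KFactsProof

open Subgroup

variable {K : Type*} [Group K] [Finite K] {r : ℕ} [hr : Fact r.Prime]

/-- All facts hold trivially when the `r`-rank is at most one. -/
theorem facts_of_small (hsmall : ∀ A : Subgroup K, IsPGroup r A → Nat.card A ≤ r)
    (hfour : ∀ N : Subgroup K, InnerN N →
      (∃ v ∈ N, ∃ w ∈ N, Four v w) ∨ ∀ k : K, Odd (orderOf k) → ∀ x ∈ N, Commute k x) : Facts K r := by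
  have habel : ∀ {A : Subgroup K}, IsPGroup r A → ∀ a ∈ A, ∀ b ∈ A, Commute a b := fun hA _ ha _ hb =>
    commute_of_card_le_sq hA ((hsmall _ hA).trans (Nat.le_self_pow two_ne_zero r)) ha hb
  have hno : ∀ {A : Subgroup K}, IsPGroup r A → r ^ 2 ≤ Nat.card A → False := fun hA h => by
    have := h.trans (hsmall _ hA)
    have := hr.out.two_le
    nlinarith
  constructor
  case four => exact hfour
  case quot => exact fun N A _ hA => (hsmall A hA.isPGroup).trans (Nat.le_mul_of_pos_right _ Nat.card_pos)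
  case comm => exact fun N A _ hA h => (hno hA.isPGroup h).elim
  case abel => exact fun N A _ _ hA => habel hA
  case expAbel =>
    intro E hE β _ _
    exact habel fun x => ⟨1, Subtype.ext (by rw [pow_one, coe_pow, coe_one]; exact hE x x.2)⟩
  case free => exact fun N A _ hA _ h => (hno hA.isPGroup h).elim
  case outer => exact fun N A _ hA h => (hno hA.isPGroup h).elim
  case bigInner => exact fun N A _ hA h => (hno (hA.isPGroup.to_le inf_le_left) h).elim
  case bigSelf => exact fun N A _ hA _ h => (hno hA.isPGroup h).elim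
  case cent => exact fun N A _ hA _ h => (hno hA.isPGroup h).elim

omit [Finite K] hr in
theorem eq_one_of_isPGroup_two (h : IsPGroup 2 K) {k : K} (ho : Odd (orderOf k)) : k = 1 := by
  obtain ⟨a, ha⟩ := h k
  refine orderOf_eq_one_iff.1 (Nat.eq_one_of_dvd_coprimes ((Nat.coprime_two_right.2 ho).pow_right a)
    dvd_rfl (orderOf_dvd_of_pow_eq_one ha))

theorem twoGroup_facts (hr2 : r ≠ 2) (h : IsPGroup 2 K) : Facts K r := by
  refine facts_of_small (fun A hA => ?_) fun N _ => Or.inr fun k hk x _ => ?_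
  · obtain ⟨i, hi⟩ := IsPGroup.iff_card.1 hA
    haveI : Fact (Nat.Prime 2) := ⟨Nat.prime_two⟩
    obtain ⟨j, hj⟩ := IsPGroup.iff_card.1 (h.to_subgroup A)
    rcases Nat.eq_zero_or_pos i with h0 | h0
    · rw [hi, h0, pow_zero]; exact hr.out.one_le
    · exact absurd ((Nat.prime_dvd_prime_iff_eq hr.out Nat.prime_two).1
        (hr.out.dvd_of_dvd_pow (hj ▸ hi ▸ dvd_pow_self r h0.ne'))) hr2
  · rw [eq_one_of_isPGroup_two h hk]
    exact Commute.one_left x

theorem klein_facts (hr2 : r ≠ 2) (h : Klein K) : Facts K r := by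
  obtain ⟨⟨V, hVn, hV4, hexp, hC⟩, h3, h24⟩ := h
  refine facts_of_small (fun A hA => ?_) fun N hN => Or.inl ?_
  · obtain ⟨i, hi⟩ := IsPGroup.iff_card.1 hA
    rw [hi]
    refine (Nat.pow_le_pow_right hr.out.pos (show i ≤ 1 from ?_)).trans (pow_one r).le
    by_contra hlt
    have hd : r ^ 2 ∣ 24 := (pow_dvd_pow r (show 2 ≤ i by omega)).trans
      (hi ▸ (card_subgroup_dvd_card A).trans h24)
    have hle : r < 5 := by
      by_contra h5
      have h6 := Nat.le_of_dvd (by norm_num) hd
      nlinarith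
    have key : ∀ q < 5, q ^ 2 ∣ 24 → q = 1 ∨ q = 2 := by decide
    rcases key r hle hd with e | e
    · exact hr.out.one_lt.ne' e
    · exact hr2 e
  haveI : Fact (Nat.Prime 3) := ⟨by norm_num⟩
  obtain ⟨k, hk⟩ := exists_prime_orderOf_dvd_card' 3 h3
  have hk3 : k ^ 3 = 1 := hk ▸ pow_orderOf_eq_one k
  have hkV : k ∉ V := fun hkV => by
    have := orderOf_dvd_of_pow_eq_one (show k ^ 2 = 1 by rw [pow_two]; exact hexp k hkV)
    rw [hk] at this
    norm_num at this
  obtain ⟨v, hv, hv1⟩ : ∃ v ∈ N ⊓ V, v ≠ 1 := by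
    by_contra hno
    push Not at hno
    refine hN.ne ((eq_bot_iff_forall _).2 fun x hx => ?_)
    refine hno x ⟨hx, hC ▸ mem_centralizer_iff.2 fun y hy => ?_⟩
    have h1 : x * y * x⁻¹ * y⁻¹ = 1 := hno _
      ⟨by rw [show x * y * x⁻¹ * y⁻¹ = x * (y * x⁻¹ * y⁻¹) by group]
          exact mul_mem hx (hN.normal.conj_mem _ (inv_mem hx) y),
        V.mul_mem (hVn.conj_mem y hy x) (V.inv_mem hy)⟩
    calc y * x = x * y * x⁻¹ * y⁻¹ * (y * x) := by rw [h1, one_mul]
      _ = x * y := by group
  have hne : k * v * k⁻¹ ≠ v := by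
    intro hfix
    refine hkV (hC ▸ mem_centralizer_iff.2 fun y hy => ?_)
    by_cases hy1 : y = 1
    · rw [hy1, one_mul, mul_one]
    by_cases hyv : y = v
    · subst hyv; nth_rewrite 1 [← hfix]; group
    have hV : (V : Set K) = {1, v, y, v * y} := by
      refine (Set.eq_of_subset_of_ncard_le ?_ ?_ (Set.toFinite _)).symm
      · rintro x (rfl | rfl | rfl | rfl)
        exacts [one_mem V, hv.2, hy, mul_mem hv.2 hy]
      · have h1 : v * y ≠ 1 := fun e => hyv ((eq_inv_of_mul_eq_one_right e).trans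
          (inv_eq_of_mul_eq_one_right (hexp v hv.2)))
        have h2 : v ≠ v * y := fun e => hy1 (left_eq_mul.1 e)
        have h3 : y ≠ v * y := fun e => hv1 (right_eq_mul.1 e)
        rw [← Nat.card_coe_set_eq, SetLike.coe_sort_coe, hV4,
          Set.ncard_insert_of_notMem (by simp [Ne.symm hv1, Ne.symm hy1, Ne.symm h1]) (Set.toFinite _),
          Set.ncard_insert_of_notMem (by simp [Ne.symm hyv, h2]) (Set.toFinite _), Set.ncard_pair h3]
    have hky : k * y * k⁻¹ = y ∨ k * y * k⁻¹ = v * y := by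
      have hm : k * y * k⁻¹ ∈ (V : Set K) := hVn.conj_mem y hy k
      rw [hV] at hm
      rcases hm with e | e | e | e
      · exact absurd (conj_eq_one_iff.1 e) hy1
      · exact absurd ((MulAut.conj k).injective (e.trans hfix.symm : k * y * k⁻¹ = k * v * k⁻¹)) hyv
      · exact Or.inl e
      · exact Or.inr e
    rcases hky with e | e
    · nth_rewrite 1 [← e]; group
    exfalso
    have hvv := hexp v hv.2
    have e2 : k * (v * y) * k⁻¹ = y := by
      rw [show k * (v * y) * k⁻¹ = k * v * k⁻¹ * (k * y * k⁻¹) by group, hfix, e, ← mul_assoc, hvv, one_mul]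
    have e3 : k ^ 3 * y * (k ^ 3)⁻¹ = v * y := by
      calc k ^ 3 * y * (k ^ 3)⁻¹ = k * (k * (k * y * k⁻¹) * k⁻¹) * k⁻¹ := by
            rw [pow_succ, pow_two]; group
        _ = v * y := by rw [e, e2, e]
    rw [hk3, one_mul, inv_one, mul_one] at e3
    exact hv1 (right_eq_mul.1 e3)
  refine ⟨v, hv.1, k * v * k⁻¹, hN.normal.conj_mem v hv.1 k, ?_, ?_, hne.symm, ?_⟩
  · exact CfsgLib.Signalizer.orderOf_eq_two_of hv1 (hexp v hv.2)
  · exact CfsgLib.Signalizer.orderOf_eq_two_of (fun e => hv1 (conj_eq_one_iff.1 e))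
      (hexp _ (hVn.conj_mem v hv.2 k))
  · have hw := hVn.conj_mem v hv.2 k
    calc v * (k * v * k⁻¹) = (v * (k * v * k⁻¹))⁻¹ :=
          (inv_eq_of_mul_eq_one_right (hexp _ (mul_mem hv.2 hw))).symm
      _ = k * v * k⁻¹ * v := by
        rw [mul_inv_rev, inv_eq_of_mul_eq_one_right (hexp v hv.2), inv_eq_of_mul_eq_one_right (hexp _ hw)]

/-- The facts for every shape. -/
theorem shape_facts (hr2 : r ≠ 2) (h : Shape K) : Facts K r := by
  cases h with
  | twoGroup h => exact twoGroup_facts hr2 h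
  | klein h => exact klein_facts hr2 h
  | linear F L e h => exact lin_facts h hr2
  | seven h => exact seven_facts h.some hr2

end CfsgLib.GW.KFactsProof
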