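import Cfsg.Agent.Lib.GW.KFactsProof.Upper
import Cfsg.Agent.Lib.GW.KFactsProof.Model
import Cfsg.Agent.Lib.Known.BalancePSL.Base

/-!
# The facts about automorphisms of `PSL(2, q)` behind `KFacts`

The outer automorphism group is abelian with cyclic odd part; an automorphism of prime order with
non-trivial field component fixes a four-group; the centraliser data of the unipotent elements.
-/

set_option autoImplicit false

namespace CfsgLib.GW.KFactsProof

open Matrix
open CfsgLib.Known.AutPSL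

variable {F : Type*} [Field F] [Fintype F]

theorem exists_semilin (α : MulAut (PSL 2 F)) :
    ∃ (g : GL (Fin 2) F) (σ : F ≃+* F), α = semilin g σ := by
  obtain ⟨g, σ, e, h, he⟩ := exists_mkAut le_rfl α
  exact ⟨g, σ, by rw [h, he rfl, mkAut_false]⟩

theorem exists_fld : ∃ θ : MulAut (PSL 2 F) →* (F ≃+* F),
    ∀ (g : GL (Fin 2) F) (σ : F ≃+* F), θ (semilin g σ) = σ := by
  obtain ⟨θ, hθ⟩ := exists_fieldGraph_hom (F := F) (n := 2) le_rfl
  exact ⟨(MonoidHom.fst _ _).comp θ, fun g σ => by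
    rw [MonoidHom.comp_apply, ← mkAut_false, hθ g σ false (fun _ => rfl)]; rfl⟩

/-- The field component. -/
noncomputable def fld : MulAut (PSL 2 F) →* (F ≃+* F) := exists_fld.choose

theorem fld_semilin (g : GL (Fin 2) F) (σ : F ≃+* F) : fld (semilin g σ) = σ :=
  exists_fld.choose_spec g σ

theorem fld_conj (x : PSL 2 F) : fld (MulAut.conj x) = 1 := by
  obtain ⟨s, rfl⟩ := proj_surjective x
  rw [conj_eq_semilin, fld_semilin]; rfl

theorem isCyclic_ringAut : IsCyclic (F ≃+* F) := by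
  obtain ⟨p, hp⟩ := CharP.exists F
  obtain ⟨f, hpp, hf⟩ := FiniteField.card F p
  haveI : Fact p.Prime := ⟨hpp⟩
  exact (card_ringAut hf f.pos).2

/-- The outer automorphism group is commutative. -/
theorem commutator_mem_inn (α β : MulAut (PSL 2 F)) : α * β * α⁻¹ * β⁻¹ ∈ Cfsg.Inn (PSL 2 F) := by
  obtain ⟨p, hp⟩ := CharP.exists F
  obtain ⟨f, hpp, hf⟩ := FiniteField.card F p
  haveI : Fact p.Prime := ⟨hpp⟩
  obtain ⟨φ, -, h2, -, hk⟩ := exists_out_hom (F := F) (n := 2) le_rfl hf f.pos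
  let ψ := (MonoidHom.fst (Multiplicative (ZMod (f : ℕ))) (Multiplicative (ZMod 2))).comp φ
  have hker : ψ.ker = φ.ker := by
    ext x
    rw [MonoidHom.mem_ker, MonoidHom.mem_ker, Prod.ext_iff]
    exact ⟨fun h => ⟨h, h2 rfl x⟩, fun h => h.1⟩
  have hcen : ψ.ker ≤ Subgroup.center (Cfsg.Out (PSL 2 F)) := by
    intro z hz
    rw [Subgroup.mem_center_iff]
    intro g
    by_cases hz1 : z = 1
    · rw [hz1, mul_one, one_mul]
    by_contra hne
    have hgz : g * z * g⁻¹ ∈ ψ.ker := Subgroup.Normal.conj_mem inferInstance z hz g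
    classical
    have h3 : ({1, z, g * z * g⁻¹} : Finset (Cfsg.Out (PSL 2 F))).card = 3 := by
      refine Finset.card_eq_three.2 ⟨1, z, g * z * g⁻¹, Ne.symm hz1, ?_, ?_, rfl⟩
      · exact fun e => hz1 (conj_eq_one_iff.1 e.symm)
      · exact fun e => hne (mul_inv_eq_iff_eq_mul.1 e.symm)
    have hle : Nat.card ψ.ker ≤ 2 := by
      rw [hker, hk]; exact Nat.le_of_dvd (by norm_num) (Nat.gcd_dvd_left 2 _)
    haveI : Finite ψ.ker := inferInstance
    have : ({1, z, g * z * g⁻¹} : Finset (Cfsg.Out (PSL 2 F))).card ≤ Nat.card ψ.ker := by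
      rw [← Set.ncard_coe_finset, ← SetLike.coe_sort_coe, Nat.card_coe_set_eq]
      refine Set.ncard_le_ncard (fun y hy => ?_) (Set.toFinite _)
      simp only [Finset.coe_insert, Finset.coe_singleton, Set.mem_insert_iff, Set.mem_singleton_iff] at hy
      rcases hy with rfl | rfl | rfl
      exacts [one_mem _, hz, hgz]
    omega
  letI := commGroupOfCyclicCenterQuotient ψ hcen
  rw [← QuotientGroup.eq_one_iff]
  simp only [QuotientGroup.mk_mul, QuotientGroup.mk_inv]
  rw [mul_comm (α : Cfsg.Out (PSL 2 F)), mul_inv_cancel_right, mul_inv_cancel]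

/-- Automorphisms of odd order without field component are inner. -/
theorem mem_inn_of_odd {α : MulAut (PSL 2 F)} {k : ℕ} (hk : Odd k) (h : α ^ k = 1) (hf : fld α = 1) :
    α ∈ Cfsg.Inn (PSL 2 F) := by
  obtain ⟨t, rfl⟩ := hk
  obtain ⟨g, σ, hg⟩ := exists_semilin (α ^ (t + 1))
  have hσ : σ = RingEquiv.refl F := by
    rw [← fld_semilin g σ, ← hg, map_pow, hf, one_pow]; rfl
  subst hσ
  have e : α = semilin g (RingEquiv.refl F) * semilin g (RingEquiv.refl F) := by
    rw [← hg, ← pow_add, show t + 1 + (t + 1) = 2 * t + 1 + 1 by omega, pow_succ, h, one_mul]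
  rw [e, ← innDiag_apply, ← map_mul, innDiag_apply, ← mkAut_false,
    mem_inn_iff le_rfl _ _ _ (fun _ => rfl)]
  exact ⟨rfl, rfl, GeneralLinearGroup.det g, by rw [map_mul, pow_two]⟩

/-! ### A four-group over the prime field -/

theorem exists_four_fixed (h2 : (2 : F) ≠ 0) :
    ∃ v w : PSL 2 F, Four v w ∧ ∀ σ : F ≃+* F, fieldHom 2 F σ v = v ∧ fieldHom 2 F σ w = w := by
  obtain ⟨p, hp⟩ := CharP.exists F
  obtain ⟨f, hpp, -⟩ := FiniteField.card F p
  haveI : Fact p.Prime := ⟨hpp⟩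
  obtain ⟨a', b', hab⟩ := ZMod.sq_add_sq p (-1)
  set φ : ZMod p →+* F := ZMod.castHom dvd_rfl F
  set a := φ a' with ha
  set b := φ b' with hb
  have hsum : a ^ 2 + b ^ 2 = -1 := by
    have := congrArg φ hab
    simpa [map_add, map_pow] using this
  have hfix : ∀ (σ : F ≃+* F) (c : ZMod p), σ (φ c) = φ c := fun σ c =>
    RingHom.congr_fun (Subsingleton.elim (σ.toRingHom.comp φ) φ) c
  let A : SL 2 F := ⟨!![0, 1; -1, 0], by simp [Matrix.det_fin_two_of]⟩
  let B : SL 2 F := ⟨!![a, b; b, -a], by rw [Matrix.det_fin_two_of]; linear_combination -hsum⟩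
  have h11 : (-1 : F) ≠ 1 := fun e => h2 (by linear_combination -e)
  have hinv : ∀ (M : SL 2 F), (M : Matrix (Fin 2) (Fin 2) F) 0 0 = -(M : Matrix (Fin 2) (Fin 2) F) 1 1 →
      ¬ (∃ c : F, (M : Matrix (Fin 2) (Fin 2) F) = c • 1) → orderOf (proj 2 F M) = 2 := by
    intro M htr hns
    refine orderOf_eq_prime ?_ fun e => hns ?_
    · rw [pow_two, ← map_mul, ← map_one (proj 2 F), proj_eq_iff]
      refine ⟨-1, by simp, ?_⟩
      have hd := M.2
      rw [Matrix.det_fin_two] at hd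
      ext i j
      fin_cases i <;> fin_cases j <;>
        simp [Matrix.mul_apply, Fin.sum_univ_two, htr] at hd ⊢ <;>
        first | ring1 | linear_combination -hd | linear_combination -2 * hd | linear_combination hd
    · obtain ⟨c, -, hc⟩ := (proj_eq_iff 1 M).1 (by rw [map_one]; exact e.symm)
      exact ⟨c, hc⟩
  refine ⟨proj 2 F A, proj 2 F B, ⟨hinv A (by simp [A]) ?_, hinv B (by simp [B]) ?_, ?_, ?_⟩, fun σ => ?_⟩
  · rintro ⟨c, hc⟩
    have := congrFun₂ hc 0 1
    simp [A] at this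
  · rintro ⟨c, hc⟩
    have e1 := congrFun₂ hc 0 0
    have e2 := congrFun₂ hc 1 1
    have e3 := congrFun₂ hc 0 1
    simp [B] at e1 e2 e3
    have hc0 : c = 0 := by
      have h0 : (2 : F) * c = 0 := by linear_combination -(e2) - e1
      exact (mul_eq_zero.1 h0).resolve_left h2
    rw [e1, e3, hc0] at hsum
    simp at hsum
  · intro e
    obtain ⟨c, hc0, hc⟩ := (proj_eq_iff A B).1 e
    have e1 := congrFun₂ hc 0 1
    have e2 := congrFun₂ hc 1 0
    simp [A, B] at e1 e2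
    exact hc0 (by
      have h0 : (2 : F) * c = 0 := by linear_combination e2 - e1
      exact (mul_eq_zero.1 h0).resolve_left h2)
  · show proj 2 F A * proj 2 F B = proj 2 F B * proj 2 F A
    rw [← map_mul, ← map_mul, proj_eq_iff]
    refine ⟨-1, by simp, ?_⟩
    rw [Matrix.SpecialLinearGroup.coe_mul, Matrix.SpecialLinearGroup.coe_mul]
    ext i j
    fin_cases i <;> fin_cases j <;> simp [A, B, Matrix.mul_apply, Fin.sum_univ_two]
  · constructor <;>
    · rw [fieldHom_apply, semilin_proj]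
      congr 1
      refine Subtype.ext ?_
      rw [coe_slConjHom]
      ext i j
      fin_cases i <;> fin_cases j <;> simp [A, B, a, b, hfix]

/-- An automorphism of prime order with a field component fixes a four-group. -/
theorem exists_four_of_fld (h2 : (2 : F) ≠ 0) {α : MulAut (PSL 2 F)} {r : ℕ} (hr : r.Prime)
    (h : α ^ r = 1) (hf : fld α ≠ 1) :
    ∃ v w : PSL 2 F, Four v w ∧ α v = v ∧ α w = w := by
  haveI : Fact r.Prime := ⟨hr⟩
  obtain ⟨g, σ, rfl⟩ := exists_semilin α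
  rw [fld_semilin] at hf
  have hσ : σ ^ r = 1 := by rw [← fld_semilin g σ, ← map_pow, h, map_one]
  have hα : semilin g σ ≠ 1 := fun e => hf (by rw [← fld_semilin g σ, e, map_one])
  have hne : fieldHom 2 F σ ≠ 1 := fun e =>
    hf (fieldHom_injective le_rfl (e.trans (map_one _).symm))
  have h1 : orderOf (fieldHom 2 F σ) = r :=
    orderOf_eq_prime (by rw [← map_pow, hσ, map_one]) hne
  have h3 : orderOf (innDiag 2 F g * fieldHom 2 F σ) = r := by
    rw [fieldHom_apply, ← semilin_split]; exact orderOf_eq_prime h hα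
  obtain ⟨k, -, hk⟩ := field_coset le_rfl σ hr h1 g h3
  obtain ⟨v, w, hvw, hfix⟩ := exists_four_fixed h2
  have e : semilin g σ = k * fieldHom 2 F σ * k⁻¹ := by
    rw [← hk, fieldHom_apply, ← semilin_split]
  refine ⟨k v, k w, hvw.map k.toMonoidHom k.injective, ?_, ?_⟩ <;>
    rw [e, MulAut.mul_apply, MulAut.mul_apply, MulAut.inv_apply, MulEquiv.symm_apply_apply]
  · rw [(hfix σ).1]
  · rw [(hfix σ).2]

theorem exists_four (h2 : (2 : F) ≠ 0) : ∃ v w : PSL 2 F, Four v w :=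
  (exists_four_fixed h2).imp fun _ h => h.imp fun _ h => h.1

/-! ### Unipotent elements -/

section Unipotent

variable (p : ℕ) [Fact p.Prime] [CharP F p]

theorem exists_conj_up (U : Sylow p (PSL 2 F)) :
    ∃ l : PSL 2 F, ∀ u, u ∈ (U : Subgroup (PSL 2 F)) ↔ l * u * l⁻¹ ∈ (up (F := F)).range := by
  obtain ⟨P, hP⟩ := exists_sylow_up (F := F) p
  obtain ⟨l, rfl⟩ := MulAction.exists_smul_eq (PSL 2 F) U P
  refine ⟨l, fun u => ?_⟩
  rw [← hP]
  constructor
  · exact fun hu => ⟨u, hu, rfl⟩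
  · rintro ⟨v, hv, e⟩
    have : v = u := (MulAut.conj l).injective e
    exact this ▸ hv

/-- A non-trivial element of `p`-power order is conjugate to an upper unipotent. -/
theorem exists_conj_upx {u : PSL 2 F} (hu : u ≠ 1) {k : ℕ} (hk : u ^ p ^ k = 1) :
    ∃ l x, x ≠ 0 ∧ l * u * l⁻¹ = upx x := by
  have hz : IsPGroup p (Subgroup.zpowers u) := by
    obtain ⟨i, -, hi⟩ := (Nat.dvd_prime_pow Fact.out).1 (orderOf_dvd_of_pow_eq_one hk)
    exact IsPGroup.of_card (n := i) (by rw [Nat.card_zpowers, hi])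
  obtain ⟨l, hl⟩ := exists_conj_le_up p hz
  obtain ⟨x, hx⟩ := mem_up (hl u (Subgroup.mem_zpowers u))
  refine ⟨l, x, fun e => hu ?_, hx⟩
  rw [e, upx_zero, conj_eq_one_iff] at hx
  exact hx

theorem conj_apply_conj (α : MulAut (PSL 2 F)) (l y : PSL 2 F) :
    (MulAut.conj l * α * (MulAut.conj l)⁻¹) (l * y * l⁻¹) = l * α y * l⁻¹ := by
  rw [MulAut.mul_apply, MulAut.mul_apply, ← MulAut.conj_apply, MulAut.inv_apply,
    MulEquiv.symm_apply_apply]
  rfl

/-- An involutory inner-diagonal automorphism fixes no unipotent element. -/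
theorem eq_one_of_fix (hp : p ≠ 2) {α : MulAut (PSL 2 F)} (h : α * α = 1) (hf : fld α = 1)
    {u : PSL 2 F} (hu : u ≠ 1) {k : ℕ} (hk : u ^ p ^ k = 1) (hfix : α u = u) : α = 1 := by
  have h2 : (2 : F) ≠ 0 := CfsgLib.Classical.Two.two_ne_zero_of_char hp
  obtain ⟨l, x, hx, hlx⟩ := exists_conj_upx p hu hk
  set β := MulAut.conj l * α * (MulAut.conj l)⁻¹ with hβ
  suffices β = 1 by
    rw [hβ] at this
    exact conj_eq_one_iff.1 this
  have hfx : β (upx x) = upx x := by rw [← hlx, hβ, conj_apply_conj, hfix]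
  have hsq : β * β = 1 := by
    rw [hβ, show MulAut.conj l * α * (MulAut.conj l)⁻¹ * (MulAut.conj l * α * (MulAut.conj l)⁻¹) =
      MulAut.conj l * (α * α) * (MulAut.conj l)⁻¹ by group, h, mul_one, mul_inv_cancel]
  obtain ⟨g, σ, hg⟩ := exists_semilin β
  have hσ : σ = RingEquiv.refl F := by
    rw [← fld_semilin g σ, ← hg, hβ, map_mul, map_mul, map_inv, fld_conj, hf]
    simp
    rfl
  subst hσ
  rw [hg] at hfx hsq ⊢
  obtain ⟨h10, he⟩ := upper_of_map g _ hx hfx
  set M := (g : Matrix (Fin 2) (Fin 2) F) with hM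
  have h00 : M 0 0 = M 1 1 := by
    have : x * M 0 0 = x * M 1 1 := by rw [mul_comm]; exact he
    exact mul_left_cancel₀ hx this
  rw [← innDiag_apply, ← map_mul, innDiag_eq_one_iff le_rfl] at hsq
  obtain ⟨c, hc⟩ := hsq
  have e01 := congrFun₂ hc 0 1
  simp [Units.val_mul, ← hM, Matrix.mul_apply, Fin.sum_univ_two] at e01
  have h11 : M 1 1 ≠ 0 := by
    intro h11
    refine (GeneralLinearGroup.det g).ne_zero ?_
    rw [GeneralLinearGroup.val_det_apply, ← hM, Matrix.det_fin_two, h10, h11]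
    ring
  have h01 : M 0 1 = 0 := by
    have h0 : ((2 : F) * M 1 1) * M 0 1 = 0 := by rw [h00] at e01; linear_combination e01
    exact (mul_eq_zero.1 h0).resolve_left (mul_ne_zero h2 h11)
  rw [← innDiag_apply, innDiag_eq_one_iff le_rfl]
  refine ⟨M 1 1, ?_⟩
  rw [← hM]
  ext i j
  fin_cases i <;> fin_cases j <;> simp [h00, h01, h10]

/-- A field-twisted automorphism of a Sylow subgroup does not act quadratically. -/
theorem exists_moved (hp : p ≠ 2) (U : Sylow p (PSL 2 F)) {α : MulAut (PSL 2 F)}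
    (hU : ∀ u ∈ (U : Subgroup (PSL 2 F)), α u ∈ (U : Subgroup (PSL 2 F))) (hf : fld α * fld α ≠ 1) :
    ∃ u ∈ (U : Subgroup (PSL 2 F)), α (u * (α u)⁻¹) ≠ u * (α u)⁻¹ := by
  have h2 : (2 : F) ≠ 0 := CfsgLib.Classical.Two.two_ne_zero_of_char hp
  obtain ⟨l, hl⟩ := exists_conj_up p U
  set β := MulAut.conj l * α * (MulAut.conj l)⁻¹ with hβ
  by_contra hcon
  push Not at hcon
  have hpre : ∀ x : F, l⁻¹ * upx x * l ∈ (U : Subgroup (PSL 2 F)) := fun x =>
    (hl _).2 (by rw [show l * (l⁻¹ * upx x * l) * l⁻¹ = upx x by group]; exact upx_mem x)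
  have hβx : ∀ x, β (upx x) ∈ (up (F := F)).range ∧
      β (upx x * (β (upx x))⁻¹) = upx x * (β (upx x))⁻¹ := by
    intro x
    have e : β (upx x) = l * α (l⁻¹ * upx x * l) * l⁻¹ := by
      rw [hβ, ← conj_apply_conj α l, show l * (l⁻¹ * upx x * l) * l⁻¹ = upx x by group]
    refine ⟨e ▸ (hl _).1 (hU _ (hpre x)), ?_⟩
    have e2 : upx x * (β (upx x))⁻¹ =
        l * ((l⁻¹ * upx x * l) * (α (l⁻¹ * upx x * l))⁻¹) * l⁻¹ := by rw [e]; group
    rw [e2, hβ, conj_apply_conj, hcon _ (hpre x)]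
  obtain ⟨g, σ, hg⟩ := exists_semilin β
  have hσ : σ = fld α := by
    rw [← fld_semilin g σ, ← hg, hβ, map_mul, map_mul, map_inv, fld_conj]; simp
  rw [← hσ] at hf
  obtain ⟨y, hy⟩ := mem_up (hβx 1).1
  rw [hg] at hy
  obtain ⟨h10, -⟩ := upper_of_map g σ one_ne_zero hy
  set c := (g : Matrix (Fin 2) (Fin 2) F) 0 0 / (g : Matrix (Fin 2) (Fin 2) F) 1 1
  have hβa : ∀ x, β (upx x) = upx (c * σ x) := fun x => by
    rw [hg, upper_apply g σ h10, div_mul_eq_mul_div]
  have key : ∀ x, c * σ (x - c * σ x) = x - c * σ x := by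
    intro x
    have h := (hβx x).2
    rw [hβa, upx_inv, upx_mul, hβa, ← sub_eq_add_neg] at h
    exact upx_injective h
  have hc : c ≠ 0 := by
    intro h0
    have := key 1
    simp [h0] at this
  apply hf
  refine RingEquiv.ext fun x => ?_
  show σ (σ x) = x
  by_contra hx
  -- compare the identities at `z * x` and `z`
  have hz : ∀ z, 2 * c * σ z * (σ x - σ (σ x)) = z * (x - σ (σ x)) := by
    intro z
    have a := key (z * x)
    have b := key z
    simp only [map_sub, map_mul] at a b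
    linear_combination a - σ (σ x) * b
  have hall : ∀ z, σ z = z := by
    intro z
    have h1 := hz 1
    rw [map_one, mul_one, one_mul] at h1
    have h3 : (σ z - z) * (x - σ (σ x)) = 0 := by linear_combination hz z - σ z * h1
    exact sub_eq_zero.1 ((mul_eq_zero.1 h3).resolve_right (sub_ne_zero.2 (Ne.symm hx)))
  exact hx (by rw [hall, hall])

/-- The Borel subgroup is irreducible on its unipotent radical. -/
theorem eq_sylow_of_invariant (hp : p ≠ 2) (U : Sylow p (PSL 2 F)) {S : Subgroup (PSL 2 F)}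
    (hS : S ≤ (U : Subgroup (PSL 2 F))) (h1 : S ≠ ⊥)
    (hinv : Subgroup.normalizer ((U : Subgroup (PSL 2 F)) : Set (PSL 2 F)) ≤
      Subgroup.normalizer (S : Set (PSL 2 F))) :
    (U : Subgroup (PSL 2 F)) ≤ S := by
  have h2 : (2 : F) ≠ 0 := CfsgLib.Classical.Two.two_ne_zero_of_char hp
  obtain ⟨l, hl⟩ := exists_conj_up p U
  let T : AddSubgroup F :=
    { carrier := {x | l⁻¹ * upx x * l ∈ S}
      zero_mem' := by simp [upx_zero, one_mem]
      add_mem' := fun {x y} hx hy => by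
        show l⁻¹ * upx (x + y) * l ∈ S
        rw [← upx_mul, show l⁻¹ * (upx x * upx y) * l = (l⁻¹ * upx x * l) * (l⁻¹ * upx y * l) by group]
        exact mul_mem hx hy
      neg_mem' := fun {x} hx => by
        show l⁻¹ * upx (-x) * l ∈ S
        rw [← upx_inv, show l⁻¹ * (upx x)⁻¹ * l = (l⁻¹ * upx x * l)⁻¹ by group]
        exact inv_mem hx }
  have hTsq : ∀ a : F, a ≠ 0 → ∀ x ∈ T, a * a * x ∈ T := by
    intro a ha x hx
    let D : SL 2 F := ⟨!![a, 0; 0, a⁻¹], by simp [Matrix.det_fin_two_of, ha]⟩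
    have hd : ∀ y, proj 2 F D * upx y * (proj 2 F D)⁻¹ = upx (a * a * y) := by
      intro y
      rw [mul_inv_eq_iff_eq_mul, upx_eq, upx_eq, ← map_mul, ← map_mul]
      congr 1
      refine Subtype.ext ?_
      rw [Matrix.SpecialLinearGroup.coe_mul, Matrix.SpecialLinearGroup.coe_mul]
      ext i j
      fin_cases i <;> fin_cases j <;> simp [D, upSL, Matrix.mul_apply, Fin.sum_univ_two]
      field_simp
    have hd' : ∀ y, (proj 2 F D)⁻¹ * upx y * proj 2 F D = upx (y / (a * a)) := fun y => by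
      conv_lhs => rw [show y = a * a * (y / (a * a)) by field_simp, ← hd]
      group
    have hn : l⁻¹ * proj 2 F D * l ∈ Subgroup.normalizer ((U : Subgroup (PSL 2 F)) : Set (PSL 2 F)) := by
      refine Subgroup.mem_normalizer_iff.2 fun u => ?_
      show u ∈ (U : Subgroup (PSL 2 F)) ↔ _ ∈ (U : Subgroup (PSL 2 F))
      rw [hl, hl (l⁻¹ * proj 2 F D * l * u * _),
        show l * (l⁻¹ * proj 2 F D * l * u * (l⁻¹ * proj 2 F D * l)⁻¹) * l⁻¹ =
          proj 2 F D * (l * u * l⁻¹) * (proj 2 F D)⁻¹ by group]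
      constructor
      · intro h
        obtain ⟨y, hy⟩ := mem_up h
        rw [hy, hd]; exact upx_mem _
      · intro h
        obtain ⟨y, hy⟩ := mem_up h
        rw [show l * u * l⁻¹ = (proj 2 F D)⁻¹ * (proj 2 F D * (l * u * l⁻¹) * (proj 2 F D)⁻¹) * proj 2 F D
          by group, hy, hd']
        exact upx_mem _
    have := (Subgroup.mem_normalizer_iff.1 (hinv hn) _).1 hx
    rw [show l⁻¹ * proj 2 F D * l * (l⁻¹ * upx x * l) * (l⁻¹ * proj 2 F D * l)⁻¹ =
      l⁻¹ * (proj 2 F D * upx x * (proj 2 F D)⁻¹) * l by group, hd] at this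
    exact this
  obtain ⟨s, hs, hs1⟩ := (Subgroup.bot_or_exists_ne_one S).resolve_left h1
  obtain ⟨x₀, hx₀⟩ := mem_up ((hl s).1 (hS hs))
  have hx₀T : x₀ ∈ T := by
    show l⁻¹ * upx x₀ * l ∈ S
    rw [← hx₀, show l⁻¹ * (l * s * l⁻¹) * l = s by group]; exact hs
  have hx₀0 : x₀ ≠ 0 := fun e => hs1 (by
    rw [e, upx_zero, conj_eq_one_iff] at hx₀; exact hx₀)
  have hsq : ∀ a : F, a * a * x₀ ∈ T := fun a => by
    rcases eq_or_ne a 0 with rfl | ha
    · simpa using T.zero_mem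
    · exact hTsq a ha x₀ hx₀T
  intro u hu
  obtain ⟨y, hy⟩ := mem_up ((hl u).1 hu)
  have hyT : y ∈ T := by
    have := T.sub_mem (hsq ((y / x₀ + 1) / 2)) (hsq ((y / x₀ - 1) / 2))
    rwa [show (y / x₀ + 1) / 2 * ((y / x₀ + 1) / 2) * x₀ -
      (y / x₀ - 1) / 2 * ((y / x₀ - 1) / 2) * x₀ = y by field_simp; ring] at this
  have := hyT
  change l⁻¹ * upx y * l ∈ S at this
  rwa [← hy, show l⁻¹ * (l * u * l⁻¹) * l = u by group] at this

/-- An automorphism fixing a Sylow subgroup pointwise is conjugation by one of its elements. -/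
theorem exists_conj_of_fix (U : Sylow p (PSL 2 F)) {α : MulAut (PSL 2 F)}
    (hfix : ∀ u ∈ (U : Subgroup (PSL 2 F)), α u = u) :
    ∃ u ∈ (U : Subgroup (PSL 2 F)), α = MulAut.conj u := by
  obtain ⟨l, hl⟩ := exists_conj_up p U
  set β := MulAut.conj l * α * (MulAut.conj l)⁻¹ with hβ
  have hfx : ∀ x, β (upx x) = upx x := fun x => by
    have hm : l⁻¹ * upx x * l ∈ (U : Subgroup (PSL 2 F)) :=
      (hl _).2 (by rw [show l * (l⁻¹ * upx x * l) * l⁻¹ = upx x by group]; exact upx_mem x)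
    conv_lhs => rw [show upx x = l * (l⁻¹ * upx x * l) * l⁻¹ by group, hβ, conj_apply_conj, hfix _ hm]
    group
  obtain ⟨g, σ, hg⟩ := exists_semilin β
  obtain ⟨h10, he⟩ := upper_of_map g σ one_ne_zero (hg ▸ hfx 1)
  rw [map_one, mul_one, one_mul] at he
  set M := (g : Matrix (Fin 2) (Fin 2) F) with hM
  have h11 : M 1 1 ≠ 0 := by
    intro h11
    refine (GeneralLinearGroup.det g).ne_zero ?_
    rw [GeneralLinearGroup.val_det_apply, ← hM, Matrix.det_fin_two, h10, h11]
    ring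
  have hσ : σ = RingEquiv.refl F := RingEquiv.ext fun x => by
    have h := hfx x
    rw [hg, upper_apply g σ h10, ← hM, he, mul_div_cancel_left₀ _ h11] at h
    exact upx_injective h
  subst hσ
  refine ⟨l⁻¹ * upx (M 0 1 / M 1 1) * l, (hl _).2
    (by rw [show l * (l⁻¹ * upx (M 0 1 / M 1 1) * l) * l⁻¹ = upx (M 0 1 / M 1 1) by group]; exact upx_mem _), ?_⟩
  have hb : β = MulAut.conj (upx (M 0 1 / M 1 1)) := by
    rw [hg, upx_eq, conj_eq_semilin, ← mkAut_false, ← mkAut_false, mkAut_eq_iff le_rfl fun _ => ⟨rfl, rfl⟩]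
    refine ⟨rfl, rfl, (M 1 1)⁻¹, ?_⟩
    rw [← hM, show ((Matrix.SpecialLinearGroup.toGL (upSL (M 0 1 / M 1 1)) : GL (Fin 2) F) : Matrix (Fin 2) (Fin 2) F)
      = !![1, M 0 1 / M 1 1; 0, 1] from rfl]
    ext i j
    fin_cases i <;> fin_cases j <;> simp [h10, he, h11, div_eq_inv_mul]
  have e : α = (MulAut.conj l)⁻¹ * β * MulAut.conj l := by rw [hβ]; group
  rw [e, hb, ← map_inv, ← map_mul, ← map_mul]

/-- The centraliser of a unipotent element is a `p`-group. -/
theorem isPElt_of_commute (hp : p ≠ 2) {u x : PSL 2 F} (hu : u ≠ 1) {k : ℕ} (hk : u ^ p ^ k = 1)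
    (hx : Commute u x) : x ^ p = 1 := by
  obtain ⟨l, a, ha, hla⟩ := exists_conj_upx p hu hk
  obtain ⟨s, hs⟩ := proj_surjective (l * x * l⁻¹)
  have hc : Commute (proj 2 F s) (upx a) := by
    rw [hs, ← hla]
    exact (hx.symm.map (MulAut.conj l).toMonoidHom : _)
  have hfix : semilin (Matrix.SpecialLinearGroup.toGL s) (RingEquiv.refl F) (upx a) = upx a := by
    rw [← conj_eq_semilin, MulAut.conj_apply, hc.eq, mul_inv_cancel_right]
  obtain ⟨h10, he⟩ := upper_of_map _ _ ha hfix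
  have h00 : (s : Matrix (Fin 2) (Fin 2) F) 0 0 = (s : Matrix (Fin 2) (Fin 2) F) 1 1 := by
    refine mul_right_cancel₀ ha ?_
    rw [mul_comm ((s : Matrix (Fin 2) (Fin 2) F) 1 1)]; exact he
  change (s : Matrix (Fin 2) (Fin 2) F) 1 0 = 0 at h10
  have hd := s.2
  rw [Matrix.det_fin_two, h10, mul_zero, sub_zero, ← h00] at hd
  have e : proj 2 F s = upx ((s : Matrix (Fin 2) (Fin 2) F) 0 1 / (s : Matrix (Fin 2) (Fin 2) F) 0 0) := by
    rw [upx_eq, proj_eq_iff]
    refine ⟨(s : Matrix (Fin 2) (Fin 2) F) 0 0, fun e0 => by rw [e0] at hd; simp at hd, ?_⟩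
    ext i j
    have h0 : (s : Matrix (Fin 2) (Fin 2) F) 0 0 ≠ 0 := fun e0 => by rw [e0] at hd; simp at hd
    fin_cases i <;> fin_cases j <;> simp [upSL, h10, h00.symm, mul_div_cancel₀, h0, hd]
    field_simp
    linear_combination -((s : Matrix (Fin 2) (Fin 2) F) 0 1) * hd
  have hp' : (l * x * l⁻¹) ^ p = 1 := by
    rw [← hs, e, upx, ← map_pow, ← ofAdd_nsmul, nsmul_eq_mul, CharP.cast_eq_zero, zero_mul,
      ofAdd_zero, map_one]
  rwa [conj_pow, conj_eq_one_iff] at hp'

theorem isCyclic_sylow {r : ℕ} [Fact r.Prime] (hr : r ≠ 2) (hrp : r ≠ p) (R : Sylow r (PSL 2 F)) :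
    IsCyclic (R : Subgroup (PSL 2 F)) := by
  obtain ⟨Q, rfl⟩ := Sylow.mapSurjective_surjective (f := proj 2 F) proj_surjective r R
  haveI := CfsgLib.Classical.Two.isCyclic_sylow_odd p r hr hrp Q
  exact isCyclic_of_surjective ((proj 2 F).subgroupMap (Q : Subgroup (SL 2 F)))
    (MonoidHom.subgroupMap_surjective _ _)

include p in
/-- Subgroups of odd prime power order are abelian. -/
theorem commute_of_pGroup {r : ℕ} [Fact r.Prime] (hr : r ≠ 2) {R : Subgroup (PSL 2 F)}
    (hR : IsPGroup r R) {a b : PSL 2 F} (ha : a ∈ R) (hb : b ∈ R) : Commute a b := by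
  rcases eq_or_ne r p with rfl | hrp
  · obtain ⟨l, hl⟩ := exists_conj_le_up r hR
    obtain ⟨x, hx⟩ := mem_up (hl a ha)
    obtain ⟨y, hy⟩ := mem_up (hl b hb)
    have h : l * (a * b) * l⁻¹ = l * (b * a) * l⁻¹ := by
      rw [show l * (a * b) * l⁻¹ = (l * a * l⁻¹) * (l * b * l⁻¹) by group,
        show l * (b * a) * l⁻¹ = (l * b * l⁻¹) * (l * a * l⁻¹) by group, hx, hy, upx_mul, upx_mul, add_comm]
    exact mul_left_cancel (mul_right_cancel h)
  · obtain ⟨P, hP⟩ := hR.exists_le_sylow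
    haveI := isCyclic_sylow p hr hrp P
    letI := IsCyclic.commGroup (α := (P : Subgroup (PSL 2 F)))
    exact congrArg Subtype.val (mul_comm (⟨a, hP ha⟩ : (P : Subgroup (PSL 2 F))) ⟨b, hP hb⟩)

end Unipotent

end CfsgLib.GW.KFactsProof
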