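import Cfsg.Agent.Lib.Known.AutPSL.FieldClass
import Cfsg.Agent.Lib.Classical.SL2Structure
import Cfsg.Agent.Lib.Classical.SL2Sylow

/-!
# Automorphisms of `PSL(2, q)` and the upper unitriangular subgroup

A semilinear automorphism moving one non-trivial upper unipotent to another is upper triangular.
-/

set_option autoImplicit false

namespace CfsgLib.GW.KFactsProof

open Matrix
open CfsgLib.Known.AutPSL

variable {F : Type*} [Field F]

/-- The upper unitriangular matrix. -/
def upSL (x : F) : SL 2 F := ⟨!![1, x; 0, 1], by simp [Matrix.det_fin_two_of]⟩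

theorem upSL_mul (x y : F) : upSL x * upSL y = upSL (x + y) := by
  refine Subtype.ext ?_
  show (!![1, x; 0, 1] : Matrix (Fin 2) (Fin 2) F) * !![1, y; 0, 1] = !![1, x + y; 0, 1]
  simp [Matrix.mul_fin_two, add_comm]

/-- The upper unitriangular subgroup of `PSL(2, F)`, as a homomorphism. -/
def up : Multiplicative F →* PSL 2 F where
  toFun x := proj 2 F (upSL x.toAdd)
  map_one' := by
    rw [← map_one (proj 2 F)]
    congr 1
    exact Subtype.ext (by simp [upSL, Matrix.one_fin_two])
  map_mul' x y := by rw [← map_mul, upSL_mul]; rfl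

/-- An upper unipotent. -/
def upx (x : F) : PSL 2 F := up (Multiplicative.ofAdd x)

theorem upx_eq (x : F) : upx x = proj 2 F (upSL x) := rfl

theorem upx_mem (x : F) : upx x ∈ (up (F := F)).range := ⟨_, rfl⟩

theorem mem_up {u : PSL 2 F} (hu : u ∈ (up (F := F)).range) : ∃ x, u = upx x := by
  obtain ⟨x, rfl⟩ := hu
  exact ⟨x.toAdd, rfl⟩

theorem upx_mul (x y : F) : upx x * upx y = upx (x + y) := ((up (F := F)).map_mul _ _).symm

theorem upx_inv (x : F) : (upx x)⁻¹ = upx (-x) := ((up (F := F)).map_inv _).symm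

theorem upx_zero : upx (0 : F) = 1 := (up (F := F)).map_one

theorem upx_injective : Function.Injective (upx : F → PSL 2 F) := by
  intro x y h
  obtain ⟨c, -, hc⟩ := (proj_eq_iff _ _).1 h
  have e0 := congrFun₂ hc 0 0
  have e1 := congrFun₂ hc 0 1
  simp [upSL] at e0 e1
  rw [e1, ← e0, one_mul]

/-- The image of an upper unipotent is upper triangular data. -/
theorem upper_of_map (g : GL (Fin 2) F) (σ : F ≃+* F) {x y : F} (hx : x ≠ 0)
    (h : semilin g σ (upx x) = upx y) :
    (g : Matrix (Fin 2) (Fin 2) F) 1 0 = 0 ∧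
      (g : Matrix (Fin 2) (Fin 2) F) 0 0 * σ x = y * (g : Matrix (Fin 2) (Fin 2) F) 1 1 := by
  rw [upx_eq, upx_eq, semilin_proj] at h
  obtain ⟨c, -, hc⟩ := (proj_eq_iff _ _).1 h
  set M := (g : Matrix (Fin 2) (Fin 2) F) with hM
  have h2 : (upSL y : Matrix (Fin 2) (Fin 2) F) * M = c • (M * (upSL x : Matrix (Fin 2) (Fin 2) F).map σ) := by
    rw [hc, coe_slConjHom, smul_mul, mul_assoc, ← hM]
    rw [show ((g⁻¹ : GL (Fin 2) F) : Matrix (Fin 2) (Fin 2) F) * M = 1 from Units.inv_mul g, mul_one]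
  have hσx : σ x ≠ 0 := by simpa using hx
  have a := congrFun₂ h2 1 0
  have b := congrFun₂ h2 1 1
  have d := congrFun₂ h2 0 1
  simp [upSL, Matrix.mul_apply, Fin.sum_univ_two] at a b d
  have h10 : M 1 0 = 0 := by
    by_contra h10
    have hc1 : c = 1 := by
      have : (c - 1) * M 1 0 = 0 := by linear_combination -a
      rcases mul_eq_zero.1 this with e | e
      · linear_combination e
      · exact absurd e h10
    subst hc1
    have : M 1 0 * σ x = 0 := by linear_combination -b
    exact h10 ((mul_eq_zero.1 this).resolve_right hσx)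
  refine ⟨h10, ?_⟩
  have h11 : M 1 1 ≠ 0 := by
    intro h11
    refine (GeneralLinearGroup.det g).ne_zero ?_
    rw [GeneralLinearGroup.val_det_apply, ← hM, Matrix.det_fin_two, h10, h11]
    ring
  have hc1 : c = 1 := by
    rw [h10, zero_mul, zero_add] at b
    exact mul_right_cancel₀ h11 (by rw [one_mul]; exact b.symm)
  subst hc1
  linear_combination -d

/-- An upper triangular semilinear automorphism acts on the upper unipotents by `x ↦ c σ x`. -/
theorem upper_apply (g : GL (Fin 2) F) (σ : F ≃+* F) (h : (g : Matrix (Fin 2) (Fin 2) F) 1 0 = 0) (x : F) :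
    semilin g σ (upx x) =
      upx ((g : Matrix (Fin 2) (Fin 2) F) 0 0 * σ x / (g : Matrix (Fin 2) (Fin 2) F) 1 1) := by
  set M := (g : Matrix (Fin 2) (Fin 2) F) with hM
  have h11 : M 1 1 ≠ 0 := by
    intro h11
    refine (GeneralLinearGroup.det g).ne_zero ?_
    rw [GeneralLinearGroup.val_det_apply, ← hM, Matrix.det_fin_two, h, h11]
    ring
  rw [upx_eq, upx_eq, semilin_proj]
  congr 1
  refine Subtype.ext ?_
  have h2 : M * (upSL x : Matrix (Fin 2) (Fin 2) F).map σ =
      (upSL (M 0 0 * σ x / M 1 1) : Matrix (Fin 2) (Fin 2) F) * M := by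
    ext i j
    fin_cases i <;> fin_cases j <;>
      simp [upSL, Matrix.mul_apply, Fin.sum_univ_two, h, div_mul_cancel₀ _ h11]
    ring
  rw [coe_slConjHom, ← hM, h2, mul_assoc]
  rw [show M * ((g⁻¹ : GL (Fin 2) F) : Matrix (Fin 2) (Fin 2) F) = 1 from Units.mul_inv g, mul_one]

section Sylow

variable [Fintype F] (p : ℕ) [Fact p.Prime] [CharP F p]

theorem card_up : Nat.card (up (F := F)).range = Fintype.card F := by
  rw [← Nat.card_eq_fintype_card]
  refine (Nat.card_congr (Equiv.ofBijective (fun x : F => (⟨upx x, upx_mem x⟩ : (up (F := F)).range))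
    ⟨fun x y h => upx_injective (congrArg Subtype.val h), fun ⟨u, hu⟩ => ?_⟩)).symm
  obtain ⟨x, rfl⟩ := mem_up hu
  exact ⟨x, rfl⟩

/-- The upper unipotents form a Sylow subgroup. -/
theorem exists_sylow_up : ∃ P : Sylow p (PSL 2 F), (P : Subgroup (PSL 2 F)) = (up (F := F)).range := by
  obtain ⟨f, -, hf⟩ := CfsgLib.Classical.exists_card_eq_prime_pow (F := F) p
  have hU : IsPGroup p (up (F := F)).range := IsPGroup.of_card (n := f) (by rw [card_up, hf])
  obtain ⟨P, hP⟩ := hU.exists_le_sylow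
  refine ⟨P, (Subgroup.eq_of_le_of_card_ge hP ?_).symm⟩
  obtain ⟨Q, hQ⟩ := Sylow.mapSurjective_surjective (f := proj 2 F) proj_surjective p P
  rw [card_up, ← hQ, Sylow.coe_mapSurjective]
  refine (Nat.le_of_dvd Nat.card_pos ((Q : Subgroup (SL 2 F)).card_map_dvd _)).trans ?_
  exact (CfsgLib.Classical.Two.card_sylow_SL_two p Q).le

/-- Every `p`-subgroup is conjugate into the upper unipotents. -/
theorem exists_conj_le_up {U : Subgroup (PSL 2 F)} (hU : IsPGroup p U) :
    ∃ l : PSL 2 F, ∀ u ∈ U, l * u * l⁻¹ ∈ (up (F := F)).range := by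
  obtain ⟨P, hP⟩ := exists_sylow_up (F := F) p
  obtain ⟨Q, hQ⟩ := hU.exists_le_sylow
  obtain ⟨l, rfl⟩ := MulAction.exists_smul_eq (PSL 2 F) Q P
  exact ⟨l, fun u hu => hP ▸ ⟨u, hQ hu, rfl⟩⟩

end Sylow

end CfsgLib.GW.KFactsProof
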